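import Cfsg.Agent.TwoS4.Final
import Cfsg.Agent.Invol.StronglyEmbedded
import Cfsg.Agent.Core.PCore
import Cfsg.Agent.S2954

/-!
Either a strongly embedded subgroup or two maximal 2-local subgroups `S4`.
-/

set_option autoImplicit false

namespace Cfsg.Agent.TwoS4

open Subgroup

theorem main {G : Type*} [Group G] [Finite G]
    (hL : Cfsg.IsCharacteristicTwoType G) (hO : Cfsg.pCore 2 G = ⊥)
    (hN : ∀ N : Subgroup G, Cfsg.IsTwoLocal N → Group.IsSolvable N)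
    (hZ : ∀ S : Sylow 2 G,
      centralizer {z : G | z ∈ (S : Subgroup G) ∧ z ^ 2 = 1 ∧ ∀ s ∈ (S : Subgroup G), s * z = z * s} ≤
        normalizer ((S : Subgroup G) : Set G))
    (H : Subgroup G) (hH : H = closure {g : G | Odd (orderOf g)}) :
    (∃ K : Subgroup G, Cfsg.IsStronglyEmbedded K) ∨
      ∃ M₁ M₂ : Subgroup H, M₁ ≠ M₂ ∧ Cfsg.IsMaximalTwoLocal M₁ ∧ Cfsg.IsMaximalTwoLocal M₂ ∧
        Nonempty (M₁ ≃* Equiv.Perm (Fin 4)) ∧ Nonempty (M₂ ≃* Equiv.Perm (Fin 4)) ∧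
        Nat.card ↥(M₁ ⊓ M₂) = 8 := by
  haveI : Fact (Nat.Prime 2) := ⟨Nat.prime_two⟩
  have hZ' : ∀ S : Sylow 2 G, centralizer (Cfsg.omegaCenterOf (S : Subgroup G) : Set G) ≤
      normalizer ((S : Subgroup G) : Set G) := fun S => by
    refine le_trans (le_of_eq ?_) (hZ S)
    rw [Cfsg.omegaCenterOf, Cfsg.omegaOne, centralizer_closure]
    congr 1
    ext z
    simp only [Set.mem_setOf_eq, mem_inf, mem_centralizer_iff, SetLike.mem_coe]
    exact ⟨fun h => ⟨h.1.1, h.2, h.1.2⟩, fun h => ⟨⟨h.1, h.2.2⟩, h.2.1⟩⟩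
  obtain ⟨S⟩ : Nonempty (Sylow 2 G) := inferInstance
  have hSne : (S : Subgroup G) ≠ ⊥ := S.ne_bot_of_dvd_card (even_iff_two_dvd.1 hL.1)
  set J := Cfsg.thompsonSubgroupOf 2 (S : Subgroup G) with hJ
  set M := normalizer (J : Set G) with hMdef
  have hJeq : J = SfFree.jS (S : Subgroup G) := ZNComp.thompson_eq_jS _
  have hJS : J ≤ (S : Subgroup G) := by rw [hJeq]; exact SfFree.jS_le _
  have hJne : J ≠ ⊥ := by rw [hJeq]; exact SfFree.jS_ne_bot S.2 hSne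
  have hJ2 : IsPGroup 2 J := S.2.to_le hJS
  have hM : Cfsg.IsTwoLocal M := ⟨J, hJ2, hJne, rfl⟩
  have hMtop : M ≠ ⊤ := fun h => by
    haveI : J.Normal := normalizer_eq_top_iff.1 h
    exact hJne (le_bot_iff.1 ((Core.le_pCore hJ2).trans hO.le))
  have hSM : (S : Subgroup G) ≤ M := by
    rw [hMdef, hJeq]; exact SfFree.le_normalizer_jS _
  by_cases hne : (Cfsg.straddlingTwoSubgroups M).Nonempty
  · right
    classical
    have hfin := Set.toFinite (Cfsg.straddlingTwoSubgroups M)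
    obtain ⟨T1, hT1, hm1⟩ := Set.exists_max_image _ Cfsg.maxElemAbelianOrder hfin hne
    obtain ⟨T2, hT2, hm2⟩ := Set.exists_max_image
      {T ∈ Cfsg.straddlingTwoSubgroups M | Cfsg.maxElemAbelianOrder T = Cfsg.maxElemAbelianOrder T1}
      (fun T => Nat.card ↥(Cfsg.thompsonSubgroupOf 2 T)) (Set.toFinite _) ⟨T1, hT1, rfl⟩
    obtain ⟨T, hT, hm3⟩ := Set.exists_max_image
      {T ∈ Cfsg.straddlingTwoSubgroups M | Cfsg.maxElemAbelianOrder T = Cfsg.maxElemAbelianOrder T1 ∧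
        Nat.card ↥(Cfsg.thompsonSubgroupOf 2 T) = Nat.card ↥(Cfsg.thompsonSubgroupOf 2 T2)}
      (fun T => Nat.card ↥T) (Set.toFinite _) ⟨T2, hT2.1, hT2.2, rfl⟩
    have hTmax : T ∈ Cfsg.maxStraddlingTwoSubgroups M := by
      refine ⟨hT.1, fun U hU => ⟨?_, fun h1 => ⟨?_, fun h2 => hm3 U ⟨hU, ?_, ?_⟩⟩⟩⟩
      · rw [hT.2.1]; exact hm1 U hU
      · rw [hT.2.2]; exact hm2 U ⟨hU, h1.trans hT.2.1⟩
      · exact h1.trans hT.2.1
      · exact h2.trans hT.2.2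
    obtain ⟨P, Q, hPQ, hP, hQ, hTP, hTQ, hcase⟩ :=
      S2954.result hL hN hZ' hO S M hM le_rfl T hTmax
    have hodd : ∀ g : G, Odd (orderOf g) → g ∈ H := fun g hg => hH ▸ subset_closure hg
    rcases hcase with ⟨⟨e1⟩, ⟨e2⟩⟩ | ⟨⟨e1⟩, ⟨e2⟩⟩
    · have hA : Nat.card (Multiplicative (ZMod 1)) = 1 := by simp
      have d : Pair (Multiplicative (ZMod 1)) P Q T :=
        ⟨⟨hP, e1.trans MulEquiv.prodUnique.symm, hA.le.trans (by norm_num)⟩,
          ⟨hQ, e2.trans MulEquiv.prodUnique.symm, hA.le.trans (by norm_num)⟩, hPQ, hTP, hTQ⟩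
      refine d.conclusion hodd ?_ ?_ <;> rw [eq_bot_iff] <;> refine inf_le_left.trans (le_of_eq ?_) <;>
        refine eq_bot_of_card_eq _ ?_
      · rw [d.s.card_C, hA]
      · rw [d.r.card_C, hA]
    · have hA : Nat.card (Multiplicative (ZMod 2)) = 2 := by simp
      haveI : Fact (Nat.card (Multiplicative (ZMod 2)) = 2) := ⟨hA⟩
      have d : Pair (Multiplicative (ZMod 2)) P Q T :=
        ⟨⟨hP, e1, hA.le⟩, ⟨hQ, e2, hA.le⟩, hPQ, hTP, hTQ⟩
      obtain ⟨h1, h2⟩ := d.C_inf_odd H hH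
      exact d.conclusion hodd h1 h2
  · left
    obtain ⟨R, hR⟩ := (S.2.comap_subtype (K := M)).exists_le_sylow
    have hRne : (R : Subgroup M) ≠ ⊥ := fun h => by
      have h' : (S : Subgroup G).subgroupOf M = ⊥ := le_bot_iff.1 (h ▸ hR)
      exact hSne (by
        have := subgroupOf_eq_bot.1 h'
        rwa [disjoint_iff, inf_eq_left.2 hSM] at this)
    refine ⟨M, Invol.se_of_normalizers hMtop R hRne fun X hX hXne => ?_⟩
    by_contra hno
    have hX2 : IsPGroup 2 ↥(X.map M.subtype) := (R.2.to_le hX).map _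
    have hXne' : X.map M.subtype ≠ ⊥ := fun h =>
      hXne ((map_eq_bot_iff_of_injective X M.subtype_injective).1 h)
    exact hne ⟨X.map M.subtype, hX2, hXne', map_subtype_le X, _, ⟨_, hX2, hXne', rfl⟩,
      le_normalizer, hno⟩

end Cfsg.Agent.TwoS4
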