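import Cfsg.Agent.TwoS4.Pair

/-!
The common Sylow 2-subgroup `D × C` of two subgroups `S4 × C₂`.
-/

set_option autoImplicit false
set_option linter.unusedSectionVars false
set_option linter.style.haveILetI false

namespace Cfsg.Agent.TwoS4

open Subgroup

variable {G : Type*} [Group G]

/-- A subgroup of order two has two elements. -/
theorem two_cases {K : Subgroup G} (hK : Nat.card K = 2) {c x : G} (hc : c ∈ K) (hc1 : c ≠ 1)
    (hx : x ∈ K) : x = 1 ∨ x = c := by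
  by_contra h
  push Not at h
  obtain ⟨y, -, hy⟩ := (Nat.card_eq_two_iff' (1 : K)).1 hK
  have h1 := hy ⟨c, hc⟩ fun e => hc1 (congrArg Subtype.val e)
  have h2 := hy ⟨x, hx⟩ fun e => h.1 (congrArg Subtype.val e)
  exact h.2 (congrArg Subtype.val (h2.trans h1.symm))

/-- A four group has four elements. -/
theorem four_cases {K : Subgroup G} (hK : Nat.card K = 4) (hsq : ∀ k ∈ K, k * k = 1) {a b x : G}
    (ha : a ∈ K) (ha1 : a ≠ 1) (hb : b ∈ K) (hb1 : b ≠ 1) (hab : b ≠ a) (hx : x ∈ K) :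
    x = 1 ∨ x = a ∨ x = b ∨ x = a * b := by
  classical
  haveI : Finite K := Nat.finite_of_card_ne_zero (by omega)
  letI := Fintype.ofFinite K
  rw [Nat.card_eq_fintype_card] at hK
  have hba : a * b ≠ 1 := fun e => hab <| by
    rw [← inv_eq_of_mul_eq_one_right e, inv_eq_of_mul_eq_one_right (hsq a ha)]
  have h2 : ({1, ⟨a, ha⟩, ⟨b, hb⟩, ⟨a * b, mul_mem ha hb⟩} : Finset K) = Finset.univ := by
    refine Finset.eq_univ_of_card _ ?_
    rw [hK, Finset.card_insert_of_notMem, Finset.card_insert_of_notMem,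
      Finset.card_insert_of_notMem, Finset.card_singleton]
    · simp [Subtype.ext_iff, ha1]
    · simp [Subtype.ext_iff, hab.symm, hb1]
    · simp [Subtype.ext_iff, Ne.symm ha1, Ne.symm hb1, Ne.symm hba]
  have := Finset.mem_univ (⟨x, hx⟩ : K)
  rw [← h2] at this
  simpa [Subtype.ext_iff] using this

namespace Pair

variable [Finite G] {A : Type} [Group A] [Finite A] {P Q T : Subgroup G} (d : Pair A P Q T)
  [hA : Fact (Nat.card A = 2)]

theorem exists_c : ∃ c, c ∈ d.s.C ∧ c ≠ 1 := by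
  refine (bot_or_exists_ne_one _).resolve_left fun h => ?_
  have := d.s.card_C
  rw [h, card_bot, hA.out] at this
  omega

/-- The central involution of the first maximal subgroup. -/
noncomputable def c : G := d.exists_c.choose

theorem c_mem : d.c ∈ d.s.C := d.exists_c.choose_spec.1

theorem c_ne : d.c ≠ 1 := d.exists_c.choose_spec.2

theorem c_mem_T : d.c ∈ T := d.C_le d.c_mem

theorem c_central {x : G} (hx : x ∈ P) : x * d.c = d.c * x := d.s.C_central d.c_mem hx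

theorem c_sq : d.c * d.c = 1 := d.s.E_sq (d.s.C_le_E d.c_mem)

theorem z_sq : d.z * d.z = 1 := d.s.E_sq (d.s.V_le_E d.z_left)

theorem V_sq {v : G} (hv : v ∈ d.s.V) : v * v = 1 := d.s.E_sq (d.s.V_le_E hv)

theorem mem_C_cases {x : G} (hx : x ∈ d.s.C) : x = 1 ∨ x = d.c :=
  two_cases (by rw [d.s.card_C, hA.out]) d.c_mem d.c_ne hx

theorem cent_c {x : G} (h : x * d.c = d.c * x) : x ∈ P := by
  rw [← d.s.centralizer_C hA.out, mem_centralizer_iff]
  intro y hy
  rcases d.mem_C_cases hy with rfl | rfl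
  · rw [one_mul, mul_one]
  · exact h.symm

include d hA in
theorem card_T' : Nat.card T = 16 := by rw [d.card_T, hA.out]

include d hA in
theorem card_P' : Nat.card P = 48 := by rw [d.s.card_P, hA.out]

theorem card_E' : Nat.card d.s.E = 8 := by rw [d.s.card_E, hA.out]

theorem swap_D : d.swap.D = d.D := sup_comm _ _

theorem V_le_D : d.s.V ≤ d.D := le_sup_left

theorem z_mem_D : d.z ∈ d.D := d.V_le_D d.z_left

theorem not_mem_right {v : G} (hv : v ∈ d.s.V) (h1 : v ≠ 1) (hz : v ≠ d.z) : v ∉ d.r.V := fun h =>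
  (d.z_only hv h).elim h1 hz

theorem ne_of_not_mem {v : G} (h : v ∉ d.r.V) : v ≠ 1 ∧ v ≠ d.z :=
  ⟨fun e => h (e ▸ one_mem _), fun e => h (e ▸ d.z_right)⟩

theorem V_cases {v x : G} (hv : v ∈ d.s.V) (hv' : v ∉ d.r.V) (hx : x ∈ d.s.V) :
    x = 1 ∨ x = d.z ∨ x = v ∨ x = d.z * v :=
  four_cases d.s.card_V (fun _ hk => d.V_sq hk) d.z_left d.z_ne hv (d.ne_of_not_mem hv').1
    (d.ne_of_not_mem hv').2 hx

theorem not_comm {v w : G} (hv : v ∈ d.s.V) (hv' : v ∉ d.r.V) (hw : w ∈ d.r.V) (hw' : w ∉ d.s.V) :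
    w * v ≠ v * w := by
  intro h
  have hwE : w ∈ d.s.E := by
    refine d.s.V_self_cent (d.le_left (d.swap.V_le hw)) fun x hx => ?_
    have hwz := d.z_central (d.swap.V_le hw)
    rcases d.V_cases hv hv' hx with rfl | rfl | rfl | rfl
    · simp
    · exact hwz
    · exact h
    · rw [← mul_assoc, hwz, mul_assoc, h, mul_assoc]
  refine d.not_V_le fun x hx => ?_
  rcases d.swap.V_cases hw hw' hx with rfl | rfl | rfl | rfl
  · exact one_mem _
  · rw [d.swap_z]; exact d.s.V_le_E d.z_left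
  · exact hwE
  · rw [d.swap_z]; exact mul_mem (d.s.V_le_E d.z_left) hwE

theorem commutator_eq {v w : G} (hv : v ∈ d.s.V) (hv' : v ∉ d.r.V) (hw : w ∈ d.r.V)
    (hw' : w ∉ d.s.V) : w * v * w⁻¹ = d.z * v := by
  rcases d.V_cases hv hv' (d.s.normal_V (d.le_left (d.swap.V_le hw)) hv) with h | h | h | h
  · exact absurd (conj_eq_one_iff.1 h) (d.ne_of_not_mem hv').1
  · refine absurd ?_ (d.ne_of_not_mem hv').2
    have hwz := d.z_central (d.swap.V_le hw)
    calc v = w⁻¹ * (w * v * w⁻¹) * w := by group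
      _ = w⁻¹ * (d.z * w) := by rw [h, mul_assoc]
      _ = d.z := by rw [← hwz, inv_mul_cancel_left]
  · exact absurd (mul_inv_eq_iff_eq_mul.1 h) (d.not_comm hv hv' hw hw')
  · exact h

theorem prod_sq {v w : G} (hv : v ∈ d.s.V) (hv' : v ∉ d.r.V) (hw : w ∈ d.r.V)
    (hw' : w ∉ d.s.V) : v * w * (v * w) = d.z := by
  have h := d.commutator_eq hv hv' hw hw'
  have hwi : w⁻¹ = w := inv_eq_of_mul_eq_one_right (d.swap.V_sq hw)
  rw [hwi] at h
  calc v * w * (v * w) = v * (w * v * w) := by group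
    _ = v * (d.z * v) := by rw [h]
    _ = d.z * (v * v) := by rw [← mul_assoc, d.z_central (d.V_le hv), mul_assoc]
    _ = d.z := by rw [d.V_sq hv, mul_one]

theorem exists_v : ∃ v ∈ d.s.V, v ∉ d.r.V := by
  by_contra h
  push Not at h
  have e : d.s.V = d.r.V := eq_of_le_of_card_ge h (by rw [d.r.card_V, d.s.card_V])
  exact d.not_V_le (e ▸ d.s.V_le_E)

theorem D_sq {x : G} (hx : x ∈ d.D) : x * x = 1 ∨ x * x = d.z := by
  obtain ⟨v, hv, w, hw, rfl⟩ := d.mem_D.1 hx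
  by_cases hv' : v ∈ d.r.V
  · exact Or.inl (d.swap.V_sq (mul_mem hv' hw))
  by_cases hw' : w ∈ d.s.V
  · exact Or.inl (d.V_sq (mul_mem hv hw'))
  exact Or.inr (d.prod_sq hv hv' hw hw')

theorem c_not_mem_D : d.c ∉ d.D := by
  intro h
  have hnV : d.c ∉ d.s.V := fun hV => d.c_ne <| by
    have h1 : d.c ∈ d.s.C ⊓ d.s.V := mem_inf.2 ⟨d.c_mem, hV⟩
    rwa [d.s.C_inf_V, mem_bot] at h1
  rcases d.D_invol h d.c_sq with h | h
  · exact hnV h
  · obtain ⟨v, hv, hv'⟩ := d.exists_v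
    exact d.not_comm hv hv' h hnV (d.c_central (d.s.V_le hv)).symm

theorem index_D : (d.D.subgroupOf T).index = 2 := by
  have h := card_mul_index (d.D.subgroupOf T)
  rw [Nat.card_congr (subgroupOfEquivOfLe d.D_le).toEquiv, d.card_D, d.card_T'] at h
  omega

theorem T_cases {x : G} (hx : x ∈ T) : x ∈ d.D ∨ d.c * x ∈ d.D := by
  by_cases h : x ∈ d.D
  · exact Or.inl h
  right
  have := (mul_mem_iff_of_index_two d.index_D (a := ⟨d.c, d.c_mem_T⟩) (b := ⟨x, hx⟩)).2
    (by simp [mem_subgroupOf, d.c_not_mem_D, h])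
  simpa [mem_subgroupOf] using this

theorem T_sq {x : G} (hx : x ∈ T) : x * x = 1 ∨ x * x = d.z := by
  rcases d.T_cases hx with h | h
  · exact d.D_sq h
  · have e : d.c * x * (d.c * x) = x * x := by
      calc d.c * x * (d.c * x) = d.c * (x * d.c) * x := by group
        _ = d.c * d.c * (x * x) := by rw [d.c_central (d.le_left hx)]; group
        _ = x * x := by rw [d.c_sq, one_mul]
    rw [← e]
    exact d.D_sq h

theorem fix_z {n : G} (hn : ∀ t ∈ T, n * t * n⁻¹ ∈ T) : n * d.z * n⁻¹ = d.z := by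
  obtain ⟨v, hv, hv'⟩ := d.exists_v
  obtain ⟨w, hw, hw'⟩ := d.swap.exists_v
  have h := d.T_sq (hn _ (mul_mem (d.V_le hv) (d.swap.V_le hw)))
  have e : n * (v * w) * n⁻¹ * (n * (v * w) * n⁻¹) = n * d.z * n⁻¹ := by
    rw [← d.prod_sq hv hv' hw hw']; group
  rw [e] at h
  exact h.resolve_left fun h => d.z_ne (conj_eq_one_iff.1 h)

theorem D_center {x : G} (hx : x ∈ d.D) (hc : ∀ t ∈ T, x * t = t * x) : x = 1 ∨ x = d.z := by
  have key : ∀ {P Q : Subgroup G} (e : Pair A P Q T), x ∈ e.D → x ∈ e.s.V := by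
    intro P Q e hx
    obtain ⟨v, hv, w, hw, rfl⟩ := e.mem_D.1 hx
    by_contra h
    have hw' : w ∉ e.s.V := fun h' => h (mul_mem hv h')
    obtain ⟨u, hu, hu'⟩ := e.exists_v
    refine e.not_comm hu hu' hw hw' ?_
    have h1 := hc u (e.V_le hu)
    have h2 : v * u = u * v := e.s.E_comm (e.s.V_le_E hv) (e.s.V_le_E hu)
    apply mul_left_cancel (a := v)
    rw [← mul_assoc, h1, ← mul_assoc, ← mul_assoc, h2]
  exact d.z_only (key d hx) (key d.swap (d.swap_D.symm ▸ hx))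

theorem T_center {x : G} (hx : x ∈ T) (hc : ∀ t ∈ T, x * t = t * x) :
    x = 1 ∨ x = d.z ∨ x = d.c ∨ x = d.c * d.z := by
  rcases d.T_cases hx with h | h
  · exact (d.D_center h hc).imp_right Or.inl
  · have hx' : x = d.c * (d.c * x) := by rw [← mul_assoc, d.c_sq, one_mul]
    have h' := d.D_center h fun t ht => by
      rw [mul_assoc, hc t ht, ← mul_assoc, ← d.c_central (d.le_left ht), mul_assoc]
    rcases h' with h' | h'
    · rw [h', mul_one] at hx'; exact Or.inr (Or.inr (Or.inl hx'))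
    · rw [h'] at hx'; exact Or.inr (Or.inr (Or.inr hx'))

theorem swap_c : d.swap.c = d.c * d.z := by
  have hne : d.swap.c ≠ d.c := fun h => by
    refine d.ne (le_antisymm (fun x hx => ?_) (fun x hx => ?_))
    · exact d.swap.cent_c (by rw [h]; exact d.c_central hx)
    · exact d.cent_c (by rw [← h]; exact d.swap.c_central hx)
  rcases d.T_center d.swap.c_mem_T
    (fun t ht => (d.swap.c_central (d.le_right ht)).symm) with h | h | h | h
  · exact absurd h d.swap.c_ne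
  · exact absurd (show d.swap.c ∈ d.swap.D by rw [h, d.swap_D]; exact d.z_mem_D) d.swap.c_not_mem_D
  · exact absurd h hne
  · exact h

theorem cz_central {x : G} (hx : x ∈ Q) : x * (d.c * d.z) = d.c * d.z * x := by
  rw [← d.swap_c]; exact d.swap.c_central hx

theorem cent_cz {x : G} (h : x * (d.c * d.z) = d.c * d.z * x) : x ∈ Q :=
  d.swap.cent_c (by rw [d.swap_c]; exact h)

theorem c_of_swap : d.swap.c * d.z = d.c := by
  rw [d.swap_c, mul_assoc, d.z_sq, mul_one]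

/-- Involutions of `D` are conjugate to `z`. -/
theorem D_conj_z {x : G} (hx : x ∈ d.D) (h2 : x * x = 1) (h1 : x ≠ 1) :
    ∃ g, g * x * g⁻¹ = d.z := by
  rcases d.D_invol hx h2 with h | h
  · obtain ⟨u, -, hu⟩ := d.s.V_trans h h1 d.z_left d.z_ne
    exact ⟨u, hu⟩
  · obtain ⟨u, -, hu⟩ := d.r.V_trans h h1 d.z_right d.z_ne
    exact ⟨u, hu⟩

include d hA in
/-- A 2-subgroup of `P` containing `T` is `T`. -/
theorem max_two {K : Subgroup G} (hK : IsPGroup 2 K) (hTK : T ≤ K) (hKP : K ≤ P) : K = T := by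
  haveI : Fact (Nat.Prime 2) := ⟨Nat.prime_two⟩
  obtain ⟨k, hk⟩ := IsPGroup.iff_card.1 hK
  have h1 := card_dvd_of_le hTK
  have h2 := card_dvd_of_le hKP
  rw [d.card_T', hk] at h1
  rw [d.card_P', hk] at h2
  have h3 : 2 ^ k ∣ 16 := by
    have : Nat.Coprime (2 ^ k) 3 := Nat.Coprime.pow_left k (by decide)
    exact this.dvd_of_dvd_mul_right (show 2 ^ k ∣ 16 * 3 by simpa using h2)
  exact (eq_of_le_of_card_ge hTK (by rw [hk, d.card_T']; exact Nat.le_of_dvd (by omega) h3)).symm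

include d hA in
/-- An element of `P` in a 2-group containing `T` lies in `T`. -/
theorem mem_T_of_mem {S : Subgroup G} (hS : IsPGroup 2 S) (hTS : T ≤ S) {y : G} (hy : y ∈ S)
    (hyP : y ∈ P) : y ∈ T := by
  rw [← d.max_two (hS.to_le inf_le_left) (le_inf hTS d.le_left) inf_le_right]
  exact mem_inf.2 ⟨hy, hyP⟩

/-- A representative modulo the centre of `D`. -/
theorem D_rep {v w x : G} (hv : v ∈ d.s.V) (hv' : v ∉ d.r.V) (hw : w ∈ d.r.V) (hw' : w ∉ d.s.V)
    (hx : x ∈ d.D) :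
    ∃ a r, (a = 1 ∨ a = d.z) ∧ (r = 1 ∨ r = v ∨ r = w ∨ r = v * w) ∧ x = a * r := by
  obtain ⟨v', hv1, w', hw1, rfl⟩ := d.mem_D.1 hx
  have hz := d.z_sq
  have hzv := d.z_central (d.V_le hv)
  rcases d.V_cases hv hv' hv1 with rfl | rfl | rfl | rfl <;>
    rcases d.swap.V_cases hw hw' hw1 with rfl | rfl | rfl | rfl <;>
    (try simp only [d.swap_z])
  · exact ⟨1, 1, .inl rfl, .inl rfl, rfl⟩
  · exact ⟨d.z, 1, .inr rfl, .inl rfl, by simp⟩
  · exact ⟨1, w', .inl rfl, .inr (.inr (.inl rfl)), rfl⟩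
  · exact ⟨d.z, w, .inr rfl, .inr (.inr (.inl rfl)), by simp⟩
  · exact ⟨d.z, 1, .inr rfl, .inl rfl, by simp⟩
  · exact ⟨1, 1, .inl rfl, .inl rfl, by simp [hz]⟩
  · exact ⟨d.z, w', .inr rfl, .inr (.inr (.inl rfl)), rfl⟩
  · exact ⟨1, w, .inl rfl, .inr (.inr (.inl rfl)), by rw [← mul_assoc, hz]⟩
  · exact ⟨1, v', .inl rfl, .inr (.inl rfl), by simp⟩
  · exact ⟨d.z, v', .inr rfl, .inr (.inl rfl), hzv⟩
  · exact ⟨1, v' * w', .inl rfl, .inr (.inr (.inr rfl)), by simp⟩
  · exact ⟨d.z, v' * w, .inr rfl, .inr (.inr (.inr rfl)), by rw [← mul_assoc, hzv, mul_assoc]⟩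
  · exact ⟨d.z, v, .inr rfl, .inr (.inl rfl), by simp⟩
  · exact ⟨1, v, .inl rfl, .inr (.inl rfl), by rw [mul_assoc, hzv, ← mul_assoc, hz]⟩
  · exact ⟨d.z, v * w', .inr rfl, .inr (.inr (.inr rfl)), mul_assoc _ _ _⟩
  · exact ⟨1, v * w, .inl rfl, .inr (.inr (.inr rfl)), by
      rw [mul_assoc d.z, ← mul_assoc v, hzv, mul_assoc d.z v w, ← mul_assoc d.z, hz]⟩

end Pair

end Cfsg.Agent.TwoS4
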