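import Cfsg.Agent.TwoS4.Transfer

/-!
Two maximal 2-local subgroups isomorphic to `S4` inside the subgroup generated by the elements of
odd order.
-/

set_option autoImplicit false
set_option linter.unusedSectionVars false
set_option linter.style.haveILetI false

namespace Cfsg.Agent.TwoS4

open Subgroup

variable {G : Type*} [Group G]

theorem normalizer_subgroupOf' {V H : Subgroup G} (h : V ≤ H) :
    normalizer ((V.subgroupOf H : Subgroup H) : Set H) =
      (normalizer (V : Set G)).subgroupOf H := by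
  ext x
  simp only [mem_normalizer_iff, mem_subgroupOf, Subgroup.coe_mul, Subgroup.coe_inv]
  constructor
  · intro hx t
    by_cases ht : t ∈ H
    · exact hx ⟨t, ht⟩
    · refine ⟨fun h' => absurd (h h') ht, fun h' => absurd ?_ ht⟩
      have := mul_mem (mul_mem (inv_mem x.2) (h h')) x.2
      rwa [show (x : G)⁻¹ * ((x : G) * t * (x : G)⁻¹) * (x : G) = t by group] at this
  · exact fun hx t => hx t

namespace Pair

variable [Finite G] {A : Type} [Group A] [Finite A] {P Q T : Subgroup G} (d : Pair A P Q T)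
  {H : Subgroup G}

theorem card_inf (hodd : ∀ g : G, Odd (orderOf g) → g ∈ H) (hC : d.s.C ⊓ H = ⊥) :
    Nat.card ↥(P ⊓ H) = 24 := by
  set X := P ⊓ H with hX
  have hU : d.s.U ≤ X := le_inf d.s.U_le (d.s.U_le_of_odd hodd)
  have hW : d.r.V ≤ X :=
    le_inf (d.swap.V_le.trans d.le_left) (d.r.V_le_U.trans (d.r.U_le_of_odd hodd))
  have hXC : X ≤ normalizer (d.s.C : Set G) := fun x hx => centralizer_le_normalizer _
    (mem_centralizer_iff.2 fun c hc => (d.s.C_central hc (mem_inf.1 hx).1).symm)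
  have hinf : d.s.C ⊓ X = ⊥ := eq_bot_iff.2 ((inf_le_inf_left _ inf_le_right).trans hC.le)
  have e := card_sup_mul' hXC
  rw [hinf, card_bot, mul_one, d.s.card_C] at e
  have hle := Nat.le_of_dvd Nat.card_pos
    (card_dvd_of_le (sup_le d.s.C_le inf_le_left : d.s.C ⊔ X ≤ P))
  rw [e, d.s.card_P] at hle
  have h12 := card_dvd_of_le hU
  rw [d.s.card_U] at h12
  have hne : Nat.card X ≠ 12 := fun h => by
    have hUX : d.s.U = X := eq_of_le_of_card_ge hU (by rw [h, d.s.card_U])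
    refine d.swap.not_V_le ?_ |>.elim
    exact fun x hx => d.r.V_le_E (show x ∈ d.r.V from by
      have : d.r.V ≤ d.s.V := fun w hw => d.s.U_two d.two (d.swap.V_le hw) (hUX ▸ hW hw)
      exact (eq_of_le_of_card_ge this (by rw [d.r.card_V, d.s.card_V])).symm ▸ hx)
  have hA := Nat.card_pos (α := A)
  have h24 : Nat.card X ≤ 24 := Nat.le_of_mul_le_mul_left (by rw [mul_comm 24] at hle; exact hle) hA
  have hpos := Nat.card_pos (α := X)
  obtain ⟨k, hk⟩ := h12
  omega

theorem iso_inf (hodd : ∀ g : G, Odd (orderOf g) → g ∈ H) (hC : d.s.C ⊓ H = ⊥) :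
    Nonempty (↥(P.subgroupOf H) ≃* Equiv.Perm (Fin 4)) := by
  let f : ↥(P.subgroupOf H) →* Equiv.Perm (Fin 4) :=
    ((MonoidHom.fst _ A).comp d.s.e.toMonoidHom).comp
      { toFun := fun x => ⟨((x : H) : G), mem_subgroupOf.1 x.2⟩
        map_one' := rfl
        map_mul' := fun _ _ => rfl }
  have hinj : Function.Injective f := by
    refine (injective_iff_map_eq_one f).2 fun x hx => ?_
    have hx' : (d.s.e ⟨((x : H) : G), mem_subgroupOf.1 x.2⟩).1 = 1 := hx
    have hC' : ((x : H) : G) ∈ d.s.C := by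
      refine d.s.mem_C.2 ⟨(d.s.e ⟨((x : H) : G), mem_subgroupOf.1 x.2⟩).2, ?_⟩
      rw [← hx']
      simp [Shape.emb]
    have h1 : ((x : H) : G) ∈ d.s.C ⊓ H := mem_inf.2 ⟨hC', (x : H).2⟩
    rw [hC, mem_bot] at h1
    exact Subtype.ext (Subtype.ext h1)
  refine ⟨MulEquiv.ofBijective f ?_⟩
  haveI : Fintype ↥(P.subgroupOf H) := Fintype.ofFinite _
  refine (Fintype.bijective_iff_injective_and_card f).2 ⟨hinj, ?_⟩
  rw [← Nat.card_eq_fintype_card, ← Nat.card_eq_fintype_card, Nat.card_perm, Nat.card_fin,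
    ← inf_subgroupOf_right, Nat.card_congr (subgroupOfEquivOfLe inf_le_right).toEquiv,
    d.card_inf hodd hC]
  rfl

theorem maximal_inf (hodd : ∀ g : G, Odd (orderOf g) → g ∈ H) (hC : d.s.C ⊓ H = ⊥) :
    Cfsg.IsMaximalTwoLocal (P.subgroupOf H) := by
  haveI : Fact (Nat.Prime 2) := ⟨Nat.prime_two⟩
  have hVH : d.s.V ≤ H := d.s.V_le_U.trans (d.s.U_le_of_odd hodd)
  have hV2 : IsPGroup 2 d.s.V := d.s.isPGroup_E.to_le d.s.V_le_E
  refine ⟨⟨d.s.V.subgroupOf H, ?_, ?_, ?_⟩, ?_⟩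
  · exact hV2.comap_subtype
  · intro h
    rw [subgroupOf_eq_bot, disjoint_iff, inf_eq_left.2 hVH] at h
    have := d.s.card_V
    rw [h, card_bot] at this
    omega
  · rw [normalizer_subgroupOf' hVH, d.s.normalizer_V]
  rintro N ⟨R, hR, hR1, rfl⟩ hle
  set R' := R.map H.subtype with hR'
  have hR'2 : IsPGroup 2 R' := hR.map _
  have hR'H : R' ≤ H := map_subtype_le R
  have hnR : ∀ x ∈ P, x ∈ H → x ∈ normalizer (R' : Set G) := by
    intro x hxP hxH
    have hx : (⟨x, hxH⟩ : H) ∈ normalizer ((R'.subgroupOf H : Subgroup H) : Set H) := by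
      rw [hR', subgroupOf, comap_map_eq_self_of_injective H.subtype_injective]
      exact hle (mem_subgroupOf.2 hxP)
    rw [normalizer_subgroupOf' hR'H] at hx
    exact mem_subgroupOf.1 hx
  have hsmall : R' ⊓ P ≤ d.s.V := by
    have hPX : P ≤ normalizer ((R' ⊓ P : Subgroup G) : Set G) := by
      have hXC : P ⊓ H ≤ normalizer (d.s.C : Set G) := fun x hx => centralizer_le_normalizer _
        (mem_centralizer_iff.2 fun c hc => (d.s.C_central hc (mem_inf.1 hx).1).symm)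
      have hinf : d.s.C ⊓ (P ⊓ H) = ⊥ :=
        eq_bot_iff.2 ((inf_le_inf_left _ inf_le_right).trans hC.le)
      have e := card_sup_mul' hXC
      rw [hinf, card_bot, mul_one, d.s.card_C, d.card_inf hodd hC] at e
      have hP : d.s.C ⊔ (P ⊓ H) = P :=
        eq_of_le_of_card_ge (sup_le d.s.C_le inf_le_left) (by rw [e, d.s.card_P, mul_comm])
      conv_lhs => rw [← hP]
      refine sup_le (fun c hc => ?_) (fun x hx => ?_)
      · refine centralizer_le_normalizer _ (mem_centralizer_iff.2 fun a ha => ?_)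
        exact d.s.C_central hc (mem_inf.1 ha).2
      · obtain ⟨hxP, hxH⟩ := mem_inf.1 hx
        refine mem_normalizer_iff.2 fun a => ?_
        rw [mem_inf, mem_inf, ← mem_normalizer_iff.1 (hnR x hxP hxH) a]
        exact and_congr_right fun _ => by
          rw [mul_mem_cancel_right (inv_mem hxP), mul_mem_cancel_left hxP]
    intro a ha
    have haE := d.s.normal_two_le inf_le_right (hR'2.to_le inf_le_left) hPX ha
    obtain ⟨g, b, h1, h2, rfl⟩ := d.s.mem_E.1 haE
    have hv : d.s.emb (g, 1) ∈ d.s.V := d.s.mem_V.2 ⟨g, h1, h2, rfl⟩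
    have hsplit : d.s.emb (g, b) = d.s.emb (1, b) * d.s.emb (g, 1) := by
      rw [← map_mul, Prod.mk_mul_mk, one_mul, mul_one]
    have hb : d.s.emb (1, b) ∈ d.s.C ⊓ H := mem_inf.2 ⟨d.s.mem_C.2 ⟨b, rfl⟩, by
      have := mul_mem (hR'H (mem_inf.1 ha).1) (inv_mem (hVH hv))
      rwa [hsplit, mul_inv_cancel_right] at this⟩
    rw [hC, mem_bot] at hb
    rw [hsplit, hb, one_mul]
    exact hv
  have hRV : R' ≤ d.s.V := by
    by_contra hnot
    have hn : d.s.V ≤ normalizer (R' : Set G) := fun v hv => hnR v (d.s.V_le hv) (hVH hv)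
    have hK : IsPGroup 2 ↥(d.s.V ⊔ R') := hV2.to_sup_of_normal_right' hR'2 hn
    haveI : Group.IsNilpotent ↥(d.s.V ⊔ R') := hK.isNilpotent
    have hlt : d.s.V.subgroupOf (d.s.V ⊔ R') < ⊤ := lt_top_iff_ne_top.2 fun h =>
      hnot (le_sup_right.trans (subgroupOf_eq_top.1 h))
    obtain ⟨⟨x, hx⟩, hxn, hxV⟩ :=
      SetLike.exists_of_lt (normalizerCondition_of_isNilpotent _ hlt)
    rw [normalizer_subgroupOf' le_sup_left, mem_subgroupOf, d.s.normalizer_V] at hxn
    rw [mem_subgroupOf] at hxV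
    rw [← SetLike.mem_coe, Subgroup.coe_mul_of_left_le_normalizer_right _ _ hn, Set.mem_mul] at hx
    obtain ⟨v, hv, r, hr, rfl⟩ := hx
    refine hxV (mul_mem hv (hsmall (mem_inf.2 ⟨hr, ?_⟩)))
    exact (mul_mem_cancel_left (d.s.V_le hv)).1 hxn
  have hVR : d.s.V ≤ R' := by
    have hne : R' ≠ ⊥ := fun h =>
      hR1 ((map_eq_bot_iff_of_injective R H.subtype_injective).1 h)
    obtain ⟨r, hr, hr1⟩ := (bot_or_exists_ne_one R').resolve_left hne
    intro v hv
    rcases eq_or_ne v 1 with rfl | hv1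
    · exact one_mem _
    obtain ⟨u, hu, rfl⟩ := d.s.V_trans (hRV hr) hr1 hv hv1
    exact (mem_normalizer_iff.1 (hnR u (d.s.U_le hu) (d.s.U_le_of_odd hodd hu)) r).1 hr
  have hR'eq : R' = d.s.V := le_antisymm hRV hVR
  have hRR : R = R'.subgroupOf H := by
    rw [hR', subgroupOf, comap_map_eq_self_of_injective H.subtype_injective]
  rw [hRR, hR'eq, normalizer_subgroupOf' hVH, d.s.normalizer_V]

/-- The conclusion. -/
theorem conclusion (hodd : ∀ g : G, Odd (orderOf g) → g ∈ H)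
    (hC : d.s.C ⊓ H = ⊥) (hC' : d.r.C ⊓ H = ⊥) :
    ∃ M₁ M₂ : Subgroup H, M₁ ≠ M₂ ∧ Cfsg.IsMaximalTwoLocal M₁ ∧ Cfsg.IsMaximalTwoLocal M₂ ∧
      Nonempty (M₁ ≃* Equiv.Perm (Fin 4)) ∧ Nonempty (M₂ ≃* Equiv.Perm (Fin 4)) ∧
      Nat.card ↥(M₁ ⊓ M₂) = 8 := by
  haveI : Fact (Nat.Prime 2) := ⟨Nat.prime_two⟩
  refine ⟨P.subgroupOf H, Q.subgroupOf H, fun h => ?_, d.maximal_inf hodd hC,
    d.swap.maximal_inf hodd hC', d.iso_inf hodd hC, d.swap.iso_inf hodd hC', ?_⟩
  · have hle : d.s.U ≤ T := fun x hx => by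
      rw [← d.inf_eq]
      refine mem_inf.2 ⟨d.s.U_le hx, ?_⟩
      have hxH := d.s.U_le_of_odd hodd hx
      have : (⟨x, hxH⟩ : H) ∈ Q.subgroupOf H := h ▸ mem_subgroupOf.2 (d.s.U_le hx)
      exact mem_subgroupOf.1 this
    obtain ⟨k, hk⟩ := IsPGroup.iff_card.1 (d.two.to_le hle)
    rw [d.s.card_U] at hk
    have : (3 : ℕ) ∣ 2 ^ k := ⟨4, hk.symm⟩
    exact absurd (Nat.prime_three.dvd_of_dvd_pow this) (by decide)
  · have e : P.subgroupOf H ⊓ Q.subgroupOf H = (T ⊓ H).subgroupOf H := by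
      rw [inf_subgroupOf_right, ← d.inf_eq]
      ext
      simp [mem_subgroupOf]
    rw [e, Nat.card_congr (subgroupOfEquivOfLe inf_le_right).toEquiv]
    have h1 := card_dvd_of_le (le_inf d.D_le (d.D_le_of_odd hodd) : d.D ≤ T ⊓ H)
    have h2 := card_dvd_of_le (inf_le_inf_right H d.le_left : T ⊓ H ≤ P ⊓ H)
    rw [d.card_D] at h1
    rw [d.card_inf hodd hC] at h2
    obtain ⟨k, hk⟩ := IsPGroup.iff_card.1 (d.two.to_le inf_le_left : IsPGroup 2 ↥(T ⊓ H))
    rw [hk] at h1 h2 ⊢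
    have hcop : Nat.Coprime (2 ^ k) 3 := Nat.Coprime.pow_left k (by decide)
    exact Nat.dvd_antisymm (hcop.dvd_of_dvd_mul_right (show 2 ^ k ∣ 8 * 3 from h2)) h1

end Pair

end Cfsg.Agent.TwoS4
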