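import Cfsg.Agent.TwoS4.Core

/-!
The normalizer of the common Sylow 2-subgroup inside a Sylow 2-subgroup of `G`.
-/

set_option autoImplicit false
set_option linter.unusedSectionVars false
set_option linter.style.haveILetI false

namespace Cfsg.Agent.TwoS4.Pair

open Subgroup

variable {G : Type*} [Group G] [Finite G] {A : Type} [Group A] [Finite A] {P Q T : Subgroup G}
  (d : Pair A P Q T) [hA : Fact (Nat.card A = 2)] {S : Subgroup G}

include d hA in
/-- A group of order at least 32 centralizing `z` is not conjugate into `P`. -/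
theorem not_conj_of_big {K : Subgroup G} (hK : IsPGroup 2 K) (hcard : 16 < Nat.card K)
    (hz : ∀ k ∈ K, k * d.z = d.z * k) (g : G) : g * d.c * g⁻¹ ≠ d.z := by
  intro h
  have hle : K.map (MulAut.conj g⁻¹).toMonoidHom ≤ P := by
    rintro _ ⟨k, hk, rfl⟩
    refine d.cent_c ?_
    simp only [MulEquiv.coe_toMonoidHom, MulAut.conj_apply, inv_inv]
    have hk' : k * (g * d.c * g⁻¹) = g * d.c * g⁻¹ * k := by rw [h]; exact hz k hk
    calc g⁻¹ * k * g * d.c = g⁻¹ * (k * (g * d.c * g⁻¹)) * g := by group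
      _ = d.c * (g⁻¹ * k * g) := by rw [hk']; group
  have h1 := card_dvd_of_le hle
  rw [card_map_of_injective (MulEquiv.injective _), d.card_P'] at h1
  haveI : Fact (Nat.Prime 2) := ⟨Nat.prime_two⟩
  obtain ⟨k, hk⟩ := IsPGroup.iff_card.1 hK
  rw [hk] at h1 hcard
  have : Nat.Coprime (2 ^ k) 3 := Nat.Coprime.pow_left k (by decide)
  have h2 := Nat.le_of_dvd (by norm_num)
    (this.dvd_of_dvd_mul_right (show 2 ^ k ∣ 16 * 3 by simpa using h1))
  omega

/-- The effect of an element of `N_S(T)` outside `T`. -/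
structure Move (y : G) : Prop where
  /-- first central involution -/
  hc : y * d.c * y⁻¹ = d.c * d.z
  /-- second central involution -/
  hcz : y * (d.c * d.z) * y⁻¹ = d.c
  /-- the common involution -/
  hz : y * d.z * y⁻¹ = d.z
  /-- first four group -/
  hV : ∀ v ∈ d.s.V, y * v * y⁻¹ ∈ d.r.V
  /-- second four group -/
  hW : ∀ w ∈ d.r.V, y * w * y⁻¹ ∈ d.s.V

theorem conj_V {y : G} (hy : ∀ t ∈ T, y * t * y⁻¹ ∈ T) (hc : y * d.c * y⁻¹ = d.c * d.z) :
    ∀ v ∈ d.s.V, y * v * y⁻¹ ∈ d.r.V := by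
  intro v hv
  have hU : d.s.U ≤ d.r.U.comap (MulAut.conj y).toMonoidHom := by
    refine d.s.U_le_closure.trans ((closure_le _).2 ?_)
    rintro x ⟨hx, h3⟩
    simp only [coe_comap, Set.mem_preimage, SetLike.mem_coe, MulEquiv.coe_toMonoidHom,
      MulAut.conj_apply]
    refine d.r.three_mem_U (d.cent_cz ?_) (by rw [conj_pow, h3, mul_one, mul_inv_cancel])
    rw [← hc]
    calc y * x * y⁻¹ * (y * d.c * y⁻¹) = y * (x * d.c) * y⁻¹ := by group
      _ = y * d.c * y⁻¹ * (y * x * y⁻¹) := by rw [d.c_central hx]; group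
  have h := hU (d.s.V_le_U hv)
  simp only [mem_comap, MulEquiv.coe_toMonoidHom, MulAut.conj_apply] at h
  exact d.r.U_two d.two (hy v (d.V_le hv)) h

theorem move_of {S : Subgroup G} (hS : IsPGroup 2 S) (hTS : T ≤ S)
    (hc1 : ∀ g, g * d.c * g⁻¹ ≠ d.z)
    {y : G} (hy : y ∈ S) (hyT : y ∉ T) (hyN : y ∈ normalizer (T : Set G)) : d.Move y := by
  have hn : ∀ t ∈ T, y * t * y⁻¹ ∈ T := fun t ht => (mem_normalizer_iff.1 hyN t).1 ht
  have hz := d.fix_z hn
  have hnc : y * d.c * y⁻¹ ≠ d.c := fun h =>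
    hyT (d.mem_T_of_mem hS hTS hy (d.cent_c (mul_inv_eq_iff_eq_mul.1 h)))
  have hc : y * d.c * y⁻¹ = d.c * d.z := by
    rcases d.T_center (hn _ d.c_mem_T) (fun t ht => by
        have ht' : y⁻¹ * t * y ∈ T := (mem_normalizer_iff''.1 hyN t).1 ht
        have := d.c_central (d.le_left ht')
        calc y * d.c * y⁻¹ * t = y * (d.c * (y⁻¹ * t * y)) * y⁻¹ := by group
          _ = t * (y * d.c * y⁻¹) := by rw [← this]; group) with h | h | h | h
    · exact absurd (conj_eq_one_iff.1 h) d.c_ne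
    · exact absurd h (hc1 y)
    · exact absurd h hnc
    · exact h
  have hcz : y * (d.c * d.z) * y⁻¹ = d.c := by
    calc y * (d.c * d.z) * y⁻¹ = y * d.c * y⁻¹ * (y * d.z * y⁻¹) := by group
      _ = d.c := by rw [hc, hz, mul_assoc, d.z_sq, mul_one]
  refine ⟨hc, hcz, hz, d.conj_V hn hc, fun w hw => ?_⟩
  refine d.swap.conj_V hn ?_ w hw
  rw [d.swap_z, d.c_of_swap, d.swap_c, hcz]

variable {y : G}

theorem Move.not_mem (m : d.Move y) {v : G} (hv : v ∈ d.s.V) (hv' : v ∉ d.r.V) :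
    y * v * y⁻¹ ∉ d.s.V := by
  intro h
  rcases d.z_only h (m.hV v hv) with h1 | h1
  · exact (d.ne_of_not_mem hv').1 (conj_eq_one_iff.1 h1)
  · refine (d.ne_of_not_mem hv').2 ?_
    calc v = y⁻¹ * (y * v * y⁻¹) * y := by group
      _ = y⁻¹ * (y * d.z * y⁻¹) * y := by rw [h1, m.hz]
      _ = d.z := by group

theorem Move.conj_D (m : d.Move y) : ∀ x ∈ d.D, y * x * y⁻¹ ∈ d.D := by
  intro x hx
  obtain ⟨v, hv, w, hw, rfl⟩ := d.mem_D.1 hx
  rw [show y * (v * w) * y⁻¹ = y * v * y⁻¹ * (y * w * y⁻¹) by group]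
  exact mul_mem (mem_sup_right (m.hV v hv)) (mem_sup_left (m.hW w hw))

/-- No element of `D` is inverted up to `z` by an involutory move. -/
theorem Move.no_inverted (m : d.Move y) (hy2 : y * y = 1) {e : G} (he : e ∈ d.D) :
    y * e * y⁻¹ ≠ d.z * e⁻¹ := by
  obtain ⟨v, hv, hv'⟩ := d.exists_v
  set w := y * v * y⁻¹ with hwdef
  have hw : w ∈ d.r.V := m.hV v hv
  have hw' : w ∉ d.s.V := m.not_mem d hv hv'
  have hyi : y⁻¹ = y := inv_eq_of_mul_eq_one_right hy2
  have hyw : y * w * y⁻¹ = v := by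
    rw [hwdef, hyi, show y * (y * v * y) * y = y * y * v * (y * y) by group, hy2, one_mul, mul_one]
  obtain ⟨a, r, ha, hr, rfl⟩ := d.D_rep hv hv' hw hw' he
  intro h
  have haz : a⁻¹ = a ∧ y * a * y⁻¹ = a ∧ ∀ t ∈ T, t * a = a * t := by
    rcases ha with rfl | rfl
    · simp
    · exact ⟨inv_eq_of_mul_eq_one_right d.z_sq, m.hz, fun t ht => d.z_central ht⟩
  have hrT : r ∈ T := by
    rcases hr with rfl | rfl | rfl | rfl
    exacts [one_mem _, d.V_le hv, d.swap.V_le hw, mul_mem (d.V_le hv) (d.swap.V_le hw)]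
  have h' : y * r * y⁻¹ = d.z * r⁻¹ := by
    apply mul_left_cancel (a := a)
    calc a * (y * r * y⁻¹) = y * a * y⁻¹ * (y * r * y⁻¹) := by rw [haz.2.1]
      _ = d.z * (a * r)⁻¹ := by rw [← h]; group
      _ = a * (d.z * r⁻¹) := by
        rw [mul_inv_rev, haz.1, ← mul_assoc, haz.2.2 _ (mul_mem (d.D_le d.z_mem_D) (inv_mem hrT))]
  have hvi : v⁻¹ = v := inv_eq_of_mul_eq_one_right (d.V_sq hv)
  have hwi : w⁻¹ = w := inv_eq_of_mul_eq_one_right (d.swap.V_sq hw)
  rcases hr with rfl | rfl | rfl | rfl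
  · rw [mul_one, mul_inv_cancel, inv_one, mul_one] at h'
    exact d.z_ne h'.symm
  · rw [← hwdef, hvi] at h'
    exact hw' (h' ▸ mul_mem d.z_left hv)
  · rw [hyw, hwi] at h'
    exact hv' (h' ▸ mul_mem d.z_right hw)
  · have h1 : y * (v * w) * y⁻¹ = w * v := by
      rw [show y * (v * w) * y⁻¹ = y * v * y⁻¹ * (y * w * y⁻¹) by group, hyw]
    rw [h1, mul_inv_rev, hvi, hwi] at h'
    exact d.z_ne (mul_eq_right.1 h'.symm)

/-- The square of a move lying in `T` lies in `D`. -/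
theorem Move.sq_mem (m : d.Move y) (h2 : y * y ∈ T) : y * y ∈ d.D := by
  refine (d.T_cases h2).resolve_right fun he => ?_
  obtain ⟨e, hedef⟩ : ∃ e, e = d.c * (y * y) := ⟨_, rfl⟩
  rw [← hedef] at he
  have hye : y * y = d.c * e := by rw [hedef, ← mul_assoc, d.c_sq, one_mul]
  clear hedef
  have hkey : y * e * y⁻¹ = d.z * e := by
    have h1 : y * (y * y) * y⁻¹ = y * y := by group
    rw [hye, show y * (d.c * e) * y⁻¹ = y * d.c * y⁻¹ * (y * e * y⁻¹) by group, m.hc] at h1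
    have h3 : d.z * (y * e * y⁻¹) = e :=
      mul_left_cancel (a := d.c) (by rw [← mul_assoc]; exact h1)
    calc y * e * y⁻¹ = d.z * (d.z * (y * e * y⁻¹)) := by rw [← mul_assoc, d.z_sq, one_mul]
      _ = d.z * e := by rw [h3]
  obtain ⟨v, hv, hv'⟩ := d.exists_v
  set w := y * v * y⁻¹ with hwdef
  have hw : w ∈ d.r.V := m.hV v hv
  have hw' : w ∉ d.s.V := m.not_mem d hv hv'
  obtain ⟨a, r, ha, hr, har⟩ := d.D_rep hv hv' hw hw' he
  have hrT : r ∈ T := by
    rcases hr with rfl | rfl | rfl | rfl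
    exacts [one_mem _, d.V_le hv, d.swap.V_le hw, mul_mem (d.V_le hv) (d.swap.V_le hw)]
  have haz : y * a * y⁻¹ = a ∧ ∀ t ∈ T, t * a = a * t := by
    rcases ha with rfl | rfl
    · simp
    · exact ⟨m.hz, fun t ht => d.z_central ht⟩
  have h' : y * r * y⁻¹ = d.z * r := by
    apply mul_left_cancel (a := a)
    calc a * (y * r * y⁻¹) = y * a * y⁻¹ * (y * r * y⁻¹) := by rw [haz.1]
      _ = d.z * (a * r) := by rw [← har, ← hkey, har]; group
      _ = a * (d.z * r) := by rw [← mul_assoc, haz.2 _ (d.D_le d.z_mem_D), mul_assoc]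
  rcases hr with rfl | rfl | rfl | rfl
  · rw [mul_one, mul_inv_cancel, mul_one] at h'
    exact d.z_ne h'.symm
  · rw [← hwdef] at h'
    exact hw' (h' ▸ mul_mem d.z_left hv)
  · refine hw' ?_
    have h3 : w = d.z * (y * w * y⁻¹) := by rw [h', ← mul_assoc, d.z_sq, one_mul]
    rw [h3]
    exact mul_mem d.z_left (m.hW _ hw)
  · have hyw : y * w * y⁻¹ = d.z * v := by
      calc y * w * y⁻¹ = y * y * v * (y * y)⁻¹ := by rw [hwdef]; group
        _ = (d.c * a) * ((v * w) * v * (v * w)⁻¹) * (d.c * a)⁻¹ := by rw [hye, har]; group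
        _ = d.z * v := by
          have h4 : v * w * v * (v * w)⁻¹ = d.z * v := by
            calc v * w * v * (v * w)⁻¹ = v * (w * v * w⁻¹) * v⁻¹ := by group
              _ = v * d.z * (v * v⁻¹) := by rw [d.commutator_eq hv hv' hw hw']; group
              _ = d.z * v := by rw [mul_inv_cancel, mul_one, d.z_central (d.V_le hv)]
          have ht : d.z * v ∈ T := mul_mem (d.D_le d.z_mem_D) (d.V_le hv)
          have h5 : d.c * a * (d.z * v) = d.z * v * (d.c * a) := by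
            rw [mul_assoc d.c, ← haz.2 _ ht, ← mul_assoc, ← d.c_central (d.le_left ht), mul_assoc]
          rw [h4, h5, mul_inv_cancel_right]
    have h6 : y * (v * w) * y⁻¹ = v * w := by
      rw [show y * (v * w) * y⁻¹ = y * v * y⁻¹ * (y * w * y⁻¹) by group, hyw]
      have h7 : w * v = d.z * (v * w) := by
        rw [← mul_assoc, ← d.commutator_eq hv hv' hw hw', inv_mul_cancel_right]
      change w * (d.z * v) = _
      rw [← mul_assoc, d.z_central (d.swap.V_le hw), mul_assoc, h7, ← mul_assoc, d.z_sq, one_mul]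
    rw [h6] at h'
    exact d.z_ne (mul_eq_right.1 h'.symm)

include d hA in
/-- The normalizer of `T` in `S` contains `T` with index at most two. -/
theorem coset (hS : IsPGroup 2 S) (hTS : T ≤ S) (hc1 : ∀ g, g * d.c * g⁻¹ ≠ d.z) {a b : G}
    (ha : a ∈ S ⊓ normalizer (T : Set G)) (hb : b ∈ S ⊓ normalizer (T : Set G))
    (haT : a ∉ T) (hbT : b ∉ T) : a⁻¹ * b ∈ T := by
  have ma := d.move_of hS hTS hc1 (mem_inf.1 ha).1 haT (mem_inf.1 ha).2
  have mb := d.move_of hS hTS hc1 (mem_inf.1 hb).1 hbT (mem_inf.1 hb).2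
  refine d.mem_T_of_mem hS hTS (mul_mem (inv_mem (mem_inf.1 ha).1) (mem_inf.1 hb).1) (d.cent_c ?_)
  calc a⁻¹ * b * d.c = a⁻¹ * (b * d.c * b⁻¹) * b := by group
    _ = a⁻¹ * (a * d.c * a⁻¹) * b := by rw [mb.hc, ma.hc]
    _ = d.c * (a⁻¹ * b) := by group

include d hA in
/-- The case of an element of `S` normalizing `N_S(T)` moving `c` onto `c * v`. -/
theorem not_cv {N : Subgroup G} {v s : G} (hv : v ∈ d.s.V) (hv' : v ∉ d.r.V) (hTN : T ≤ N)
    (m : d.Move s)
    (hK : ∀ a ∈ N, a * (d.c * v) = d.c * v * a →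
      s * a * s⁻¹ * (d.c * v) = d.c * v * (s * a * s⁻¹)) : False := by
  have hvP := d.s.V_le hv
  have hvc : v * (d.c * v) = d.c * v * v := by
    rw [← mul_assoc, d.c_central hvP]
  have h := hK v (hTN (d.V_le hv)) hvc
  set w := s * v * s⁻¹ with hwdef
  have hw : w ∈ d.r.V := m.hV v hv
  refine d.not_comm hv hv' hw (m.not_mem d hv hv') ?_
  rw [← mul_assoc, d.c_central (d.le_left (d.swap.V_le hw))] at h
  simp only [mul_assoc] at h
  exact mul_left_cancel h

end Cfsg.Agent.TwoS4.Pair
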