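import Cfsg.Agent.TwoS4.Shape
import Cfsg.Agent.Core.Basics

/-!
Two maximal 2-local subgroups `S4 × A` with a common Sylow 2-subgroup.
-/

set_option autoImplicit false
set_option linter.style.haveILetI false
set_option linter.unusedSectionVars false

namespace Cfsg.Agent.TwoS4

open Subgroup

variable {G : Type*} [Group G]

theorem card_sup_mul' {H K : Subgroup G} (h : K ≤ normalizer (H : Set G)) :
    Nat.card (H ⊔ K : Subgroup G) * Nat.card (H ⊓ K : Subgroup G) = Nat.card H * Nat.card K := by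
  set N := normalizer (H : Set G)
  have hHN : H ≤ N := le_normalizer
  have e := Core.card_sup_mul_card_inf (K.subgroupOf N) (H.subgroupOf N)
  rw [← subgroupOf_sup h hHN] at e
  have h2 : K.subgroupOf N ⊓ H.subgroupOf N = (K ⊓ H).subgroupOf N := by
    ext; simp [mem_subgroupOf]
  rw [h2, Nat.card_congr (subgroupOfEquivOfLe (sup_le h hHN)).toEquiv,
    Nat.card_congr (subgroupOfEquivOfLe (inf_le_left.trans h : K ⊓ H ≤ N)).toEquiv,
    Nat.card_congr (subgroupOfEquivOfLe h).toEquiv,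
    Nat.card_congr (subgroupOfEquivOfLe hHN).toEquiv] at e
  rw [sup_comm, inf_comm, e, mul_comm]

variable [Finite G] {A : Type} [Group A] [Finite A]

/-- The situation. -/
structure Pair (A : Type) [Group A] (P Q T : Subgroup G) where
  /-- the first shape -/
  s : Shape A P
  /-- the second shape -/
  r : Shape A Q
  ne : P ≠ Q
  hP : Cfsg.IsSylowTwoIn T P
  hQ : Cfsg.IsSylowTwoIn T Q

namespace Pair

variable {P Q T : Subgroup G} (d : Pair A P Q T)

/-- The pair in the other order. -/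
def swap : Pair A Q P T := ⟨d.r, d.s, d.ne.symm, d.hQ, d.hP⟩

omit [Finite G] [Finite A] in
include d in
theorem le_left : T ≤ P := d.hP.1

omit [Finite G] [Finite A] in
include d in
theorem le_right : T ≤ Q := d.hQ.1

omit [Finite G] [Finite A] in
include d in
theorem two : IsPGroup 2 T := d.hP.2.1

include d in
theorem card_T : Nat.card T = 8 * Nat.card A := by
  haveI : Fact (Nat.Prime 2) := ⟨Nat.prime_two⟩
  obtain ⟨k, hk⟩ := IsPGroup.iff_card.1 d.two
  have hidx := d.hP.2.2
  have hmul : T.relIndex P * Nat.card T = Nat.card P := by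
    rw [relIndex, mul_comm, ← Nat.card_congr (subgroupOfEquivOfLe d.le_left).toEquiv]
    exact card_mul_index _
  rw [hk, d.s.card_P] at hmul
  have h12 : Nat.card A = 1 ∨ Nat.card A = 2 := by
    have := Nat.card_pos (α := A)
    have := d.s.small
    omega
  obtain ⟨m, hm⟩ := hidx
  rw [hm] at hmul
  rw [hk]
  have hk4 : k < 5 := by
    by_contra hc
    obtain ⟨j, rfl⟩ := Nat.exists_eq_add_of_le (not_lt.1 hc)
    have hj : 0 < 2 ^ j := Nat.two_pow_pos j
    have h32 : (2 * m + 1) * 32 * 2 ^ j = 24 * Nat.card A := by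
      rw [← hmul, pow_add]; ring
    have hj1 : 2 ^ j = 1 := by
      by_contra hc'
      have : 32 * 2 ≤ (2 * m + 1) * 32 * 2 ^ j := Nat.mul_le_mul (by omega) (by omega)
      rcases h12 with h | h <;> rw [h] at h32 <;> omega
    rw [hj1] at h32
    rcases h12 with h | h <;> rw [h] at h32 <;> omega
  interval_cases k <;> rcases h12 with h | h <;> rw [h] at hmul ⊢ <;>
    norm_num at hmul ⊢ <;> omega

theorem E_le : d.s.E ≤ T := by
  haveI : Fact (Nat.Prime 2) := ⟨Nat.prime_two⟩
  have hle : T ≤ normalizer (d.s.E : Set G) := d.le_left.trans d.s.P_le_normalizer_E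
  have hT' : IsPGroup 2 ↥(T ⊔ d.s.E) := d.two.to_sup_of_normal_right' d.s.isPGroup_E hle
  obtain ⟨k, hk⟩ := IsPGroup.iff_card.1 hT'
  have hle' : T ⊔ d.s.E ≤ P := sup_le d.le_left d.s.E_le
  have h1 : T.relIndex (T ⊔ d.s.E) * (T ⊔ d.s.E).relIndex P = T.relIndex P :=
    relIndex_mul_relIndex _ _ _ le_sup_left hle'
  have h2 : T.relIndex (T ⊔ d.s.E) ∣ 2 ^ k := hk ▸ relIndex_dvd_card _ _
  obtain ⟨j, -, hj⟩ := (Nat.dvd_prime_pow Nat.prime_two).1 h2
  have hodd : Odd (T.relIndex (T ⊔ d.s.E)) := Odd.of_dvd_nat d.hP.2.2 (h1 ▸ dvd_mul_right _ _)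
  rcases Nat.eq_zero_or_pos j with hj0 | hj0
  · rw [hj0, pow_zero] at hj
    exact le_sup_right.trans (relIndex_eq_one.1 hj)
  · rw [hj] at hodd
    exact absurd hodd (by rw [Nat.not_odd_iff_even]; exact (Nat.even_pow.2 ⟨even_two, hj0.ne'⟩))

theorem V_le : d.s.V ≤ T := d.s.V_le_E.trans d.E_le

theorem C_le : d.s.C ≤ T := d.s.C_le_E.trans d.E_le

include d in
theorem inf_eq : P ⊓ Q = T := by
  have hle : T ≤ P ⊓ Q := le_inf d.le_left d.le_right
  by_contra hne
  have hlt : Nat.card T < Nat.card ↥(P ⊓ Q) := by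
    by_contra hc
    exact hne (eq_of_le_of_card_ge hle (not_lt.1 hc)).symm
  have h1 := card_dvd_of_le hle
  have h2 := card_dvd_of_le (inf_le_left : P ⊓ Q ≤ P)
  rw [d.card_T] at h1 hlt
  rw [d.s.card_P] at h2
  have hAll : Nat.card ↥(P ⊓ Q) = Nat.card P := by
    rw [d.s.card_P]
    obtain ⟨a, ha⟩ := h1
    obtain ⟨b, hb⟩ := h2
    have hpos := Nat.card_pos (α := A)
    have h3 : a * b = 3 := by
      have : 8 * Nat.card A * (a * b) = 8 * Nat.card A * 3 := by
        rw [← mul_assoc, ← ha, ← hb]; ring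
      exact Nat.eq_of_mul_eq_mul_left (by omega) this
    have hadvd : a ∣ 3 := ⟨b, h3.symm⟩
    rcases (Nat.dvd_prime Nat.prime_three).1 hadvd with rfl | rfl
    · omega
    · rw [ha]; ring
  have hPQ : P ≤ Q := by
    have := eq_of_le_of_card_ge (inf_le_left : P ⊓ Q ≤ P) hAll.ge
    rw [← this]; exact inf_le_right
  exact d.ne (d.s.max.2 Q d.r.max.1 hPQ).symm

theorem E_ne : d.s.E ≠ d.r.E := fun h =>
  d.ne (by rw [← d.s.normalizer_E, h, d.r.normalizer_E])

theorem not_V_le : ¬ d.r.V ≤ d.s.E := by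
  intro h
  have hle : d.s.E ≤ d.r.E := fun x hx => d.r.V_self_cent (d.le_right (d.E_le hx))
    fun v hv => d.s.E_comm hx (h hv)
  exact d.E_ne (eq_of_le_of_card_ge hle (by rw [d.r.card_E, d.s.card_E]))

/-- The common central involution exists. -/
theorem exists_z : ∃ z, z ∈ d.s.V ∧ z ∈ d.r.V ∧ z ≠ 1 ∧
    ∀ x, x ∈ d.s.V → x ∈ d.r.V → x = 1 ∨ x = z := by
  have hTV : T ≤ normalizer (d.s.V : Set G) := d.le_left.trans d.s.P_le_normalizer_V
  have hTW : T ≤ normalizer (d.r.V : Set G) := d.le_right.trans d.r.P_le_normalizer_V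
  by_cases hbot : d.s.V ⊓ d.r.V = ⊥
  · exfalso
    refine d.not_V_le fun w hw => d.s.V_self_cent (d.le_left (d.swap.V_le hw)) fun v hv => ?_
    have h1 : w * v * w⁻¹ * v⁻¹ ∈ d.s.V ⊓ d.r.V := by
      refine mem_inf.2 ⟨mul_mem (d.s.normal_V (d.le_left (d.swap.V_le hw)) hv) (inv_mem hv), ?_⟩
      rw [show w * v * w⁻¹ * v⁻¹ = w * (v * w⁻¹ * v⁻¹) by group]
      exact mul_mem hw (d.r.normal_V (d.le_right (d.V_le hv)) (inv_mem hw))
    rw [hbot, mem_bot] at h1
    exact eq_mul_of_mul_inv_eq (mul_inv_eq_one.1 h1)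
  obtain ⟨z, hz, hz1⟩ := (bot_or_exists_ne_one _).resolve_left hbot
  refine ⟨z, hz.1, hz.2, hz1, fun x hxs hxr => ?_⟩
  by_contra hx
  push Not at hx
  refine d.not_V_le fun w hw => d.s.V_self_cent (d.le_left (d.swap.V_le hw)) fun v hv => ?_
  have hcard : Nat.card ↥(d.s.V ⊓ d.r.V) = 4 := by
    have h3 : 2 < Nat.card ↥(d.s.V ⊓ d.r.V) := by
      classical
      letI := Fintype.ofFinite ↥(d.s.V ⊓ d.r.V)
      rw [Nat.card_eq_fintype_card]
      exact Fintype.two_lt_card_iff.2 ⟨1, ⟨x, hxs, hxr⟩, ⟨z, hz⟩,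
        fun h => hx.1 (congrArg Subtype.val h).symm, fun h => hz1 (congrArg Subtype.val h).symm,
        fun h => hx.2 (congrArg Subtype.val h)⟩
    have h4 := card_dvd_of_le (inf_le_left : d.s.V ⊓ d.r.V ≤ d.s.V)
    rw [d.s.card_V] at h4
    have := Nat.le_of_dvd (by norm_num) h4
    interval_cases h : Nat.card ↥(d.s.V ⊓ d.r.V) <;> omega
  have e : d.s.V ⊓ d.r.V = d.r.V :=
    eq_of_le_of_card_ge inf_le_right (by rw [hcard, d.r.card_V])
  exact d.s.E_comm (d.s.V_le_E (e.symm ▸ hw : w ∈ d.s.V ⊓ d.r.V).1) (d.s.V_le_E hv)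

/-- A chosen common involution. -/
noncomputable def z : G := d.exists_z.choose

theorem z_left : d.z ∈ d.s.V := d.exists_z.choose_spec.1

theorem z_right : d.z ∈ d.r.V := d.exists_z.choose_spec.2.1

theorem z_ne : d.z ≠ 1 := d.exists_z.choose_spec.2.2.1

theorem z_only {x : G} (hs : x ∈ d.s.V) (hr : x ∈ d.r.V) : x = 1 ∨ x = d.z :=
  d.exists_z.choose_spec.2.2.2 x hs hr

theorem swap_z : d.swap.z = d.z :=
  (d.z_only d.swap.z_right d.swap.z_left).resolve_left d.swap.z_ne

theorem z_central {t : G} (ht : t ∈ T) : t * d.z = d.z * t := by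
  have h := d.z_only (d.s.normal_V (d.le_left ht) d.z_left) (d.r.normal_V (d.le_right ht) d.z_right)
  rcases h with h | h
  · exact absurd (conj_eq_one_iff.1 h) d.z_ne
  · exact mul_inv_eq_iff_eq_mul.1 h

/-- The dihedral group of order eight. -/
noncomputable def D : Subgroup G := d.s.V ⊔ d.r.V

theorem D_le : d.D ≤ T := sup_le d.V_le d.swap.V_le

theorem mem_D {x : G} : x ∈ d.D ↔ ∃ v ∈ d.s.V, ∃ w ∈ d.r.V, v * w = x := by
  constructor
  · intro hx
    have h := Subgroup.coe_mul_of_right_le_normalizer_left d.s.V d.r.V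
      ((d.swap.V_le.trans d.le_left).trans d.s.P_le_normalizer_V)
    have hx' : x ∈ (d.s.V ⊔ d.r.V : Subgroup G) := hx
    rw [← SetLike.mem_coe, h] at hx'
    exact Set.mem_mul.1 hx'
  · rintro ⟨v, hv, w, hw, rfl⟩
    exact mul_mem (mem_sup_left hv) (mem_sup_right hw)

theorem card_D : Nat.card d.D = 8 := by
  classical
  have hinf : Nat.card ↥(d.s.V ⊓ d.r.V) = 2 := by
    rw [Nat.card_eq_two_iff]
    refine ⟨1, ⟨d.z, d.z_left, d.z_right⟩, fun h => d.z_ne (congrArg Subtype.val h).symm, ?_⟩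
    ext ⟨x, hs, hr⟩
    simp only [Set.mem_insert_iff, Set.mem_singleton_iff, Set.mem_univ, iff_true, Subtype.ext_iff]
    exact d.z_only hs hr
  have h := card_sup_mul' (H := d.s.V) (K := d.r.V)
    ((d.swap.V_le.trans d.le_left).trans d.s.P_le_normalizer_V)
  rw [d.s.card_V, d.r.card_V, hinf] at h
  show Nat.card ↥(d.s.V ⊔ d.r.V) = 8
  omega

/-- The involutions of `D` lie in the two four groups. -/
theorem D_invol {x : G} (hx : x ∈ d.D) (h2 : x * x = 1) : x ∈ d.s.V ∨ x ∈ d.r.V := by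
  obtain ⟨v, hv, w, hw, rfl⟩ := d.mem_D.1 hx
  by_cases hv' : v ∈ d.r.V
  · exact Or.inr (mul_mem hv' hw)
  by_cases hw' : w ∈ d.s.V
  · exact Or.inl (mul_mem hv hw')
  exfalso
  have hcomm : v * w = w * v := by
    have hv1 : v⁻¹ = v := inv_eq_of_mul_eq_one_right (d.s.E_sq (d.s.V_le_E hv))
    have hw1 : w⁻¹ = w := inv_eq_of_mul_eq_one_right (d.r.E_sq (d.r.V_le_E hw))
    calc v * w = (v * w)⁻¹ := (inv_eq_of_mul_eq_one_right h2).symm
      _ = w * v := by rw [mul_inv_rev, hv1, hw1]
  -- `w` commutes with `v` and `z`, hence with the first four group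
  refine d.not_V_le fun u hu => ?_
  have hwE : w ∈ d.s.E := by
    refine d.s.V_self_cent (d.le_left (d.swap.V_le hw)) fun y hy => ?_
    have hsub : (d.s.V : Set G) ⊆ Subgroup.closure {d.z, v} := by
      intro y hy
      have hc : Subgroup.closure {d.z, v} ≤ d.s.V := (closure_le _).2 (by
        rintro a (rfl | rfl)
        exacts [d.z_left, hv])
      have h3 : 2 < Nat.card ↥(Subgroup.closure {d.z, v}) := by
        classical
        letI := Fintype.ofFinite ↥(Subgroup.closure {d.z, v})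
        rw [Nat.card_eq_fintype_card]
        refine Fintype.two_lt_card_iff.2 ⟨1, ⟨d.z, subset_closure (Or.inl rfl)⟩,
          ⟨v, subset_closure (Or.inr rfl)⟩, fun h => d.z_ne (congrArg Subtype.val h).symm,
          fun h => hv' ?_, fun h => hv' ?_⟩
        · rw [← show (1 : G) = v from congrArg Subtype.val h]; exact one_mem _
        · rw [← show d.z = v from congrArg Subtype.val h]; exact d.z_right
      have h4 := card_dvd_of_le hc
      rw [d.s.card_V] at h4
      have h5 := Nat.le_of_dvd (by norm_num) h4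
      have h6 : Nat.card ↥(Subgroup.closure {d.z, v}) = 4 := by
        interval_cases h : Nat.card ↥(Subgroup.closure {d.z, v}) <;> omega
      rw [eq_of_le_of_card_ge hc (by rw [h6, d.s.card_V])]
      exact hy
    have hcl : Subgroup.closure {d.z, v} ≤ Subgroup.centralizer {w} := (closure_le _).2 (by
      rintro a (rfl | rfl)
      · exact mem_centralizer_singleton_iff.2 (d.z_central (d.swap.V_le hw)).symm
      · exact mem_centralizer_singleton_iff.2 hcomm)
    exact (mem_centralizer_singleton_iff.1 (hcl (hsub hy))).symm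
  have hcl' : Subgroup.closure {d.z, w} = d.r.V := by
    have hc : Subgroup.closure {d.z, w} ≤ d.r.V := (closure_le _).2 (by
      rintro a (rfl | rfl)
      exacts [d.z_right, hw])
    have h3 : 2 < Nat.card ↥(Subgroup.closure {d.z, w}) := by
      classical
      letI := Fintype.ofFinite ↥(Subgroup.closure {d.z, w})
      rw [Nat.card_eq_fintype_card]
      refine Fintype.two_lt_card_iff.2 ⟨1, ⟨d.z, subset_closure (Or.inl rfl)⟩,
        ⟨w, subset_closure (Or.inr rfl)⟩, fun h => d.z_ne (congrArg Subtype.val h).symm,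
        fun h => hw' ?_, fun h => hw' ?_⟩
      · rw [← show (1 : G) = w from congrArg Subtype.val h]; exact one_mem _
      · rw [← show d.z = w from congrArg Subtype.val h]; exact d.z_left
    have h4 := card_dvd_of_le hc
    rw [d.r.card_V] at h4
    have h5 := Nat.le_of_dvd (by norm_num) h4
    have h6 : Nat.card ↥(Subgroup.closure {d.z, w}) = 4 := by
      interval_cases h : Nat.card ↥(Subgroup.closure {d.z, w}) <;> omega
    exact eq_of_le_of_card_ge hc (by rw [h6, d.r.card_V])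
  have : d.r.V ≤ d.s.E := hcl' ▸ (closure_le _).2 (by
    rintro a (rfl | rfl)
    exacts [d.s.V_le_E d.z_left, hwE])
  exact this hu

/-- Both four groups lie in any subgroup containing the elements of odd order. -/
theorem D_le_of_odd {N : Subgroup G} (hN : ∀ g : G, Odd (orderOf g) → g ∈ N) : d.D ≤ N :=
  sup_le (d.s.V_le_U.trans (d.s.U_le_of_odd hN)) (d.r.V_le_U.trans (d.r.U_le_of_odd hN))

end Pair

end Cfsg.Agent.TwoS4
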