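import Mathlib
import Cfsg.Prelude.Def_CaseTheorems
import Cfsg.Prelude.Def_JComponents

/-!
A maximal 2-local subgroup isomorphic to `S4 × A` with `A` of order at most two.
-/

set_option autoImplicit false

namespace Cfsg.Agent.TwoS4

open Subgroup Equiv

/-- The normal four group of `S4`. -/
def klein : Subgroup (Perm (Fin 4)) where
  carrier := {g | g * g = 1 ∧ Equiv.Perm.sign g = 1}
  mul_mem' := by
    have key : ∀ a b : Perm (Fin 4), a * a = 1 → Perm.sign a = 1 → b * b = 1 → Perm.sign b = 1 →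
        a * b * (a * b) = 1 := by decide +kernel
    rintro a b ⟨ha, ha'⟩ ⟨hb, hb'⟩
    exact ⟨key a b ha ha' hb hb', by rw [map_mul, ha', hb', one_mul]⟩
  one_mem' := ⟨one_mul 1, map_one _⟩
  inv_mem' := by
    rintro a ⟨ha, ha'⟩
    exact ⟨by rw [← mul_inv_rev, ha, inv_one], by rw [map_inv, ha', inv_one]⟩

theorem mem_klein {g : Perm (Fin 4)} : g ∈ klein ↔ g * g = 1 ∧ Perm.sign g = 1 := Iff.rfl

theorem card_klein : Nat.card klein = 4 := by
  have h : Nat.card klein = Nat.card {g : Perm (Fin 4) // g * g = 1 ∧ Perm.sign g = 1} :=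
    Nat.card_congr (Equiv.subtypeEquivRight fun _ => Iff.rfl)
  rw [h, Nat.card_eq_fintype_card]
  decide +kernel

theorem klein_conj : ∀ x g : Perm (Fin 4), g * g = 1 → Perm.sign g = 1 →
    x * g * x⁻¹ * (x * g * x⁻¹) = 1 ∧ Perm.sign (x * g * x⁻¹) = 1 := by decide +kernel

theorem klein_comm : ∀ a b : Perm (Fin 4), a * a = 1 → Perm.sign a = 1 → b * b = 1 →
    Perm.sign b = 1 → a * b = b * a := by decide +kernel

theorem klein_self_cent : ∀ g : Perm (Fin 4),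
    (∀ k, k * k = 1 → Perm.sign k = 1 → g * k = k * g) → g * g = 1 ∧ Perm.sign g = 1 := by
  decide +kernel

theorem klein_trans : ∀ v w : Perm (Fin 4), v * v = 1 → Perm.sign v = 1 → v ≠ 1 →
    w * w = 1 → Perm.sign w = 1 → w ≠ 1 → ∃ u, Perm.sign u = 1 ∧ u * v * u⁻¹ = w := by
  decide +kernel

theorem alt_gen : ∀ g : Perm (Fin 4), Perm.sign g = 1 →
    ∃ x y : Perm (Fin 4), x ^ 3 = 1 ∧ y ^ 3 = 1 ∧ g = x * y := by decide +kernel

theorem alt_cases : ∀ g : Perm (Fin 4), Perm.sign g = 1 →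
    (g * g = 1 ∧ Perm.sign g = 1) ∨ g ^ 3 = 1 := by decide +kernel

theorem three_even : ∀ g : Perm (Fin 4), g ^ 3 = 1 → Perm.sign g = 1 := by decide +kernel

theorem outer_witness : ∀ g : Perm (Fin 4), ¬ (g * g = 1 ∧ Perm.sign g = 1) →
    ∃ y, (g * (y * g * y⁻¹)) ^ 3 = 1 ∧ g * (y * g * y⁻¹) ≠ 1 ∨ g ^ 3 = 1 ∧ g ≠ 1 := by
  decide +kernel

variable {G : Type*} [Group G] (A : Type) [Group A]

/-- A maximal 2-local subgroup of shape `S4 × A`. -/
structure Shape (P : Subgroup G) where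
  /-- maximality -/
  max : Cfsg.IsMaximalTwoLocal P
  /-- the identification -/
  e : ↥P ≃* Perm (Fin 4) × A
  small : Nat.card A ≤ 2

namespace Shape

variable {A} {P : Subgroup G} (sh : Shape A P)

/-- The embedding. -/
noncomputable def emb : Perm (Fin 4) × A →* G := P.subtype.comp sh.e.symm.toMonoidHom

theorem emb_injective : Function.Injective sh.emb :=
  P.subtype_injective.comp sh.e.symm.injective

theorem emb_mem (x : Perm (Fin 4) × A) : sh.emb x ∈ P := (sh.e.symm x).2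

theorem exists_emb {x : G} (hx : x ∈ P) : ∃ g a, sh.emb (g, a) = x :=
  ⟨(sh.e ⟨x, hx⟩).1, (sh.e ⟨x, hx⟩).2, by simp [emb]⟩

/-- The four group. -/
noncomputable def V : Subgroup G := (klein.prod (⊥ : Subgroup A)).map sh.emb

/-- The abelian core. -/
noncomputable def E : Subgroup G := (klein.prod (⊤ : Subgroup A)).map sh.emb

/-- The central factor. -/
noncomputable def C : Subgroup G := ((⊥ : Subgroup (Perm (Fin 4))).prod (⊤ : Subgroup A)).map sh.emb

/-- The alternating group of degree four. -/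
noncomputable def U : Subgroup G :=
  ((alternatingGroup (Fin 4)).prod (⊥ : Subgroup A)).map sh.emb

theorem mem_V {x : G} : x ∈ sh.V ↔ ∃ g, g * g = 1 ∧ Perm.sign g = 1 ∧ sh.emb (g, 1) = x := by
  constructor
  · rintro ⟨⟨g, a⟩, ⟨hg, ha⟩, rfl⟩
    have ha' : a = 1 := ha
    subst ha'
    exact ⟨g, hg.1, hg.2, rfl⟩
  · rintro ⟨g, h1, h2, rfl⟩
    exact ⟨(g, 1), ⟨⟨h1, h2⟩, rfl⟩, rfl⟩

theorem mem_E {x : G} : x ∈ sh.E ↔ ∃ g a, g * g = 1 ∧ Perm.sign g = 1 ∧ sh.emb (g, a) = x := by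
  constructor
  · rintro ⟨⟨g, a⟩, ⟨hg, -⟩, rfl⟩
    exact ⟨g, a, hg.1, hg.2, rfl⟩
  · rintro ⟨g, a, h1, h2, rfl⟩
    exact ⟨(g, a), ⟨⟨h1, h2⟩, trivial⟩, rfl⟩

theorem mem_U {x : G} : x ∈ sh.U ↔ ∃ g, Perm.sign g = 1 ∧ sh.emb (g, 1) = x := by
  constructor
  · rintro ⟨⟨g, a⟩, ⟨hg, ha⟩, rfl⟩
    have ha' : a = 1 := ha
    subst ha'
    exact ⟨g, Equiv.Perm.mem_alternatingGroup.1 hg, rfl⟩
  · rintro ⟨g, h2, rfl⟩
    exact ⟨(g, 1), ⟨Equiv.Perm.mem_alternatingGroup.2 h2, rfl⟩, rfl⟩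

theorem mem_C {x : G} : x ∈ sh.C ↔ ∃ a, sh.emb (1, a) = x := by
  constructor
  · rintro ⟨⟨g, a⟩, ⟨hg, -⟩, rfl⟩
    have hg' : g = 1 := hg
    subst hg'
    exact ⟨a, rfl⟩
  · rintro ⟨a, rfl⟩
    exact ⟨(1, a), ⟨rfl, trivial⟩, rfl⟩

theorem V_le_E : sh.V ≤ sh.E := map_mono (prod_mono le_rfl bot_le)

theorem C_le_E : sh.C ≤ sh.E := map_mono (prod_mono bot_le le_rfl)

theorem E_le : sh.E ≤ P := by rintro _ ⟨x, -, rfl⟩; exact sh.emb_mem x

theorem V_le : sh.V ≤ P := sh.V_le_E.trans sh.E_le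

theorem C_le : sh.C ≤ P := sh.C_le_E.trans sh.E_le

theorem U_le : sh.U ≤ P := by rintro _ ⟨x, -, rfl⟩; exact sh.emb_mem x

theorem V_le_U : sh.V ≤ sh.U := fun x hx => by
  obtain ⟨g, -, h2, rfl⟩ := sh.mem_V.1 hx
  exact sh.mem_U.2 ⟨g, h2, rfl⟩

variable [Finite A]

include sh in
theorem card_P : Nat.card P = 24 * Nat.card A := by
  rw [Nat.card_congr sh.e.toEquiv, Nat.card_prod, Nat.card_perm, Nat.card_fin]
  rfl

theorem card_V : Nat.card sh.V = 4 := by
  rw [V, card_map_of_injective sh.emb_injective, Nat.card_congr (prodEquiv _ _).toEquiv,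
    Nat.card_prod, card_klein, card_bot]

theorem card_C : Nat.card sh.C = Nat.card A := by
  rw [C, card_map_of_injective sh.emb_injective, Nat.card_congr (prodEquiv _ _).toEquiv,
    Nat.card_prod, card_bot, card_top, one_mul]

theorem card_E : Nat.card sh.E = 4 * Nat.card A := by
  rw [E, card_map_of_injective sh.emb_injective, Nat.card_congr (prodEquiv _ _).toEquiv,
    Nat.card_prod, card_klein, card_top]

theorem card_U : Nat.card sh.U = 12 := by
  rw [U, card_map_of_injective sh.emb_injective, Nat.card_congr (prodEquiv _ _).toEquiv,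
    Nat.card_prod, card_bot, nat_card_alternatingGroup, Nat.card_fin]
  decide +kernel

include sh in
theorem A_cases (a : A) : a * a = 1 := by
  have h1 : Nat.card A = 1 ∨ Nat.card A = 2 := by
    have := Nat.card_pos (α := A)
    have := sh.small
    omega
  rcases h1 with h | h <;>
  · have := pow_card_eq_one' (x := a)
    rw [h] at this
    first
      | (rw [pow_two] at this; exact this)
      | (rw [pow_one] at this; simp [this])

include sh in
theorem A_comm (a b : A) : a * b = b * a := by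
  have inv : ∀ x : A, x⁻¹ = x := fun x => inv_eq_of_mul_eq_one_right (sh.A_cases x)
  calc a * b = (a * b)⁻¹ := (inv _).symm
    _ = b * a := by rw [mul_inv_rev, inv, inv]

/-- Elements of `C` are central in `P`. -/
theorem C_central {c x : G} (hc : c ∈ sh.C) (hx : x ∈ P) : x * c = c * x := by
  obtain ⟨a, rfl⟩ := sh.mem_C.1 hc
  obtain ⟨g, b, rfl⟩ := sh.exists_emb hx
  rw [← map_mul, ← map_mul, Prod.mk_mul_mk, Prod.mk_mul_mk, one_mul, mul_one, sh.A_comm]

theorem C_inf_V : sh.C ⊓ sh.V = ⊥ := by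
  rw [eq_bot_iff]
  rintro x ⟨hc, hv⟩
  obtain ⟨a, rfl⟩ := sh.mem_C.1 hc
  obtain ⟨g, -, -, hg⟩ := sh.mem_V.1 hv
  have := sh.emb_injective hg
  simp only [Prod.mk.injEq] at this
  rw [mem_bot, ← this.2, show ((1 : Perm (Fin 4)), (1 : A)) = 1 from rfl, map_one]

theorem normal_V {x v : G} (hx : x ∈ P) (hv : v ∈ sh.V) : x * v * x⁻¹ ∈ sh.V := by
  obtain ⟨g, h1, h2, rfl⟩ := sh.mem_V.1 hv
  obtain ⟨y, b, rfl⟩ := sh.exists_emb hx
  obtain ⟨k1, k2⟩ := klein_conj y g h1 h2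
  refine sh.mem_V.2 ⟨_, k1, k2, ?_⟩
  rw [← map_inv, ← map_mul, ← map_mul]
  simp

theorem normal_E {x v : G} (hx : x ∈ P) (hv : v ∈ sh.E) : x * v * x⁻¹ ∈ sh.E := by
  obtain ⟨g, a, h1, h2, rfl⟩ := sh.mem_E.1 hv
  obtain ⟨y, b, rfl⟩ := sh.exists_emb hx
  obtain ⟨k1, k2⟩ := klein_conj y g h1 h2
  exact sh.mem_E.2 ⟨_, b * a * b⁻¹, k1, k2, by rw [← map_inv, ← map_mul, ← map_mul]; rfl⟩

theorem E_comm {x y : G} (hx : x ∈ sh.E) (hy : y ∈ sh.E) : x * y = y * x := by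
  obtain ⟨g, a, h1, h2, rfl⟩ := sh.mem_E.1 hx
  obtain ⟨g', a', h1', h2', rfl⟩ := sh.mem_E.1 hy
  rw [← map_mul, ← map_mul, Prod.mk_mul_mk, Prod.mk_mul_mk, klein_comm g g' h1 h2 h1' h2',
    sh.A_comm]

theorem E_sq {x : G} (hx : x ∈ sh.E) : x * x = 1 := by
  obtain ⟨g, a, h1, -, rfl⟩ := sh.mem_E.1 hx
  rw [← map_mul, Prod.mk_mul_mk, h1, sh.A_cases, Prod.mk_one_one, map_one]

theorem V_self_cent {x : G} (hx : x ∈ P) (h : ∀ v ∈ sh.V, x * v = v * x) : x ∈ sh.E := by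
  obtain ⟨g, a, rfl⟩ := sh.exists_emb hx
  obtain ⟨h1, h2⟩ := klein_self_cent g fun k k1 k2 => by
    have := h _ (sh.mem_V.2 ⟨k, k1, k2, rfl⟩)
    rw [← map_mul, ← map_mul] at this
    exact congrArg Prod.fst (sh.emb_injective this)
  exact sh.mem_E.2 ⟨g, a, h1, h2, rfl⟩

theorem V_trans {v w : G} (hv : v ∈ sh.V) (hv1 : v ≠ 1) (hw : w ∈ sh.V) (hw1 : w ≠ 1) :
    ∃ u ∈ sh.U, u * v * u⁻¹ = w := by
  obtain ⟨g, h1, h2, rfl⟩ := sh.mem_V.1 hv
  obtain ⟨g', h1', h2', rfl⟩ := sh.mem_V.1 hw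
  obtain ⟨u, hu, hug⟩ := klein_trans g g' h1 h2 (fun e => hv1 (by rw [e]; exact map_one _))
    h1' h2' (fun e => hw1 (by rw [e]; exact map_one _))
  refine ⟨_, sh.mem_U.2 ⟨u, hu, rfl⟩, ?_⟩
  rw [← map_inv, ← map_mul, ← map_mul]
  simp [hug]

theorem three_mem_U {x : G} (hx : x ∈ P) (h3 : x ^ 3 = 1) : x ∈ sh.U := by
  obtain ⟨g, a, rfl⟩ := sh.exists_emb hx
  rw [← map_pow, ← sh.emb.map_one] at h3
  have h := sh.emb_injective h3
  have hg : g ^ 3 = 1 := congrArg Prod.fst h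
  have ha : a ^ 3 = 1 := congrArg Prod.snd h
  have ha' : a = 1 := by
    rw [show 3 = 2 + 1 from rfl, pow_succ, pow_two, sh.A_cases, one_mul] at ha
    exact ha
  subst ha'
  exact sh.mem_U.2 ⟨g, three_even g hg, rfl⟩

theorem U_le_closure : sh.U ≤ closure {x : G | x ∈ P ∧ x ^ 3 = 1} := by
  intro x hx
  obtain ⟨g, hg, rfl⟩ := sh.mem_U.1 hx
  obtain ⟨a, b, ha, hb, rfl⟩ := alt_gen g hg
  have hsplit : ((a * b, 1) : Perm (Fin 4) × A) = (a, 1) * (b, 1) := by simp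
  rw [hsplit, map_mul]
  exact mul_mem
    (subset_closure ⟨sh.emb_mem _, by rw [← map_pow, Prod.pow_mk, ha, one_pow, Prod.mk_one_one, map_one]⟩)
    (subset_closure ⟨sh.emb_mem _, by rw [← map_pow, Prod.pow_mk, hb, one_pow, Prod.mk_one_one, map_one]⟩)

theorem U_le_of_odd {N : Subgroup G} (hN : ∀ g : G, Odd (orderOf g) → g ∈ N) : sh.U ≤ N := by
  refine sh.U_le_closure.trans ((closure_le N).2 fun x hx => hN x ?_)
  have : orderOf x ∣ 3 := orderOf_dvd_of_pow_eq_one hx.2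
  exact Odd.of_dvd_nat (by decide) this

omit [Finite A] in
theorem pow_two_cases {x : G} {Q : Subgroup G} (hQ : IsPGroup 2 Q) (hx : x ∈ Q) (h3 : x ^ 3 = 1) :
    x = 1 := by
  obtain ⟨k, hk⟩ := IsPGroup.iff_orderOf.1 hQ ⟨x, hx⟩
  rw [orderOf_mk] at hk
  have h1 : orderOf x ∣ 3 := orderOf_dvd_of_pow_eq_one h3
  rw [← orderOf_eq_one_iff]
  rw [hk] at h1 ⊢
  exact Nat.eq_one_of_dvd_coprimes (Nat.Coprime.pow_left k (by decide : Nat.Coprime 2 3)) dvd_rfl h1

theorem U_two {x : G} {Q : Subgroup G} (hQ : IsPGroup 2 Q) (hxQ : x ∈ Q) (hx : x ∈ sh.U) :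
    x ∈ sh.V := by
  obtain ⟨g, hg, rfl⟩ := sh.mem_U.1 hx
  rcases alt_cases g hg with h | h
  · exact sh.mem_V.2 ⟨g, h.1, h.2, rfl⟩
  · rw [pow_two_cases hQ hxQ (by rw [← map_pow, Prod.pow_mk, h, one_pow, Prod.mk_one_one, map_one])]
    exact one_mem _

/-- Normal 2-subgroups of `P` lie in `E`. -/
theorem normal_two_le {Q : Subgroup G} (hQP : Q ≤ P) (hQ : IsPGroup 2 Q)
    (hn : P ≤ normalizer (Q : Set G)) : Q ≤ sh.E := by
  intro x hx
  obtain ⟨g, a, rfl⟩ := sh.exists_emb (hQP hx)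
  by_cases h : g * g = 1 ∧ Perm.sign g = 1
  · exact sh.mem_E.2 ⟨g, a, h.1, h.2, rfl⟩
  exfalso
  obtain ⟨y, ⟨h3, hne⟩ | ⟨h3, hne⟩⟩ := outer_witness g h
  · have hmem : sh.emb (g * (y * g * y⁻¹), 1) ∈ Q := by
      have hc := (mem_normalizer_iff.1 (hn (sh.emb_mem (y, 1))) _).1 hx
      have := mul_mem hx hc
      rwa [← map_inv, ← map_mul, ← map_mul, ← map_mul,
        show ((g, a) : Perm (Fin 4) × A) * ((y, 1) * (g, a) * (y, 1)⁻¹) =
          (g * (y * g * y⁻¹), 1) by simp [sh.A_cases]] at this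
    have := pow_two_cases hQ hmem (by rw [← map_pow, Prod.pow_mk, h3, one_pow, Prod.mk_one_one, map_one])
    rw [← sh.emb.map_one] at this
    exact hne (congrArg Prod.fst (sh.emb_injective this))
  · have hmem : sh.emb (g * g, 1) ∈ Q := by
      have := mul_mem hx hx
      rwa [← map_mul, Prod.mk_mul_mk, sh.A_cases] at this
    have := pow_two_cases hQ hmem (by
      rw [← map_pow, Prod.pow_mk, ← pow_two, ← pow_mul, one_pow,
        show g ^ (2 * 3) = (g ^ 3) ^ 2 by rw [← pow_mul], h3, one_pow, Prod.mk_one_one, map_one])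
    rw [← sh.emb.map_one] at this
    have h2 : g * g = 1 := congrArg Prod.fst (sh.emb_injective this)
    exact hne (by rw [← h3, show 3 = 2 + 1 from rfl, pow_succ, pow_two, h2, one_mul])

variable [Finite G]

omit [Finite A] [Finite G] in
include sh in
/-- The normalizer of a nontrivial normal 2-subgroup of `P` is `P`. -/
theorem normalizer_eq {Q : Subgroup G} (hQ : IsPGroup 2 Q) (h1 : Q ≠ ⊥)
    (hn : P ≤ normalizer (Q : Set G)) : normalizer (Q : Set G) = P :=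
  sh.max.2 _ ⟨Q, hQ, h1, rfl⟩ hn

omit [Finite G] in
theorem P_le_normalizer_V : P ≤ normalizer (sh.V : Set G) := by
  intro x hx
  refine mem_normalizer_iff.2 fun v => ⟨sh.normal_V hx, fun h => ?_⟩
  have := sh.normal_V (inv_mem hx) h
  simpa [mul_assoc] using this

omit [Finite G] in
theorem P_le_normalizer_E : P ≤ normalizer (sh.E : Set G) := by
  intro x hx
  refine mem_normalizer_iff.2 fun v => ⟨sh.normal_E hx, fun h => ?_⟩
  have := sh.normal_E (inv_mem hx) h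
  simpa [mul_assoc] using this

omit [Finite G] in
theorem isPGroup_E : IsPGroup 2 sh.E := fun x =>
  ⟨1, Subtype.ext (by simpa [pow_two] using sh.E_sq x.2)⟩

theorem normalizer_V : normalizer (sh.V : Set G) = P :=
  sh.normalizer_eq (sh.isPGroup_E.to_le sh.V_le_E)
    (fun h => by have := sh.card_V; rw [h, card_bot] at this; omega) sh.P_le_normalizer_V

theorem normalizer_E : normalizer (sh.E : Set G) = P :=
  sh.normalizer_eq sh.isPGroup_E
    (fun h => by
      have := sh.card_E; rw [h, card_bot] at this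
      have := Nat.card_pos (α := A); omega) sh.P_le_normalizer_E

/-- The centralizer of a generator of `C`. -/
theorem centralizer_C (h2 : Nat.card A = 2) : centralizer (sh.C : Set G) = P := by
  have hn : P ≤ centralizer (sh.C : Set G) := fun x hx =>
    mem_centralizer_iff.2 fun c hc => (sh.C_central hc hx).symm
  refine le_antisymm (fun x hx => ?_) hn
  rw [← sh.normalizer_eq (sh.isPGroup_E.to_le sh.C_le_E)
    (fun h => by have := sh.card_C; rw [h, card_bot] at this; omega)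
    (hn.trans (centralizer_le_normalizer _))]
  exact centralizer_le_normalizer _ hx

end Shape

end Cfsg.Agent.TwoS4
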