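import Cfsg.Agent.TwoS4.Moves
import Cfsg.Agent.TwoTransfer.Basic

/-!
Two maximal 2-local subgroups `S4 × C₂` with a common Sylow 2-subgroup force a subgroup of index two
avoiding the central involutions.
-/

set_option autoImplicit false
set_option linter.unusedSectionVars false
set_option linter.style.haveILetI false

namespace Cfsg.Agent.TwoS4.Pair

open Subgroup

variable {G : Type*} [Group G] [Finite G] {A : Type} [Group A] [Finite A] {P Q T : Subgroup G}
  (d : Pair A P Q T) [hA : Fact (Nat.card A = 2)]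

theorem D_no_conj (hc1 : ∀ g, g * d.c * g⁻¹ ≠ d.z) {g : G} : g * d.c * g⁻¹ ∉ d.D := by
  intro h
  obtain ⟨k, hk⟩ := d.D_conj_z h (by
    rw [show g * d.c * g⁻¹ * (g * d.c * g⁻¹) = g * (d.c * d.c) * g⁻¹ by group, d.c_sq, mul_one,
      mul_inv_cancel]) (fun e => d.c_ne (conj_eq_one_iff.1 e))
  exact hc1 (k * g) (by rw [← hk]; group)

theorem pow_case {k : ℕ} (hk : 1 ≤ k) (g : G) : g⁻¹ * d.c ^ 2 ^ k * g = 1 := by
  obtain ⟨j, rfl⟩ := Nat.exists_eq_add_of_le hk
  rw [pow_add, pow_mul, pow_one, pow_two, d.c_sq, one_pow]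
  group

/-- The case in which `T` is a Sylow 2-subgroup. -/
theorem index_two_of_eq (S : Sylow 2 G) (hS : (S : Subgroup G) = T) :
    ∃ N : Subgroup G, N.Normal ∧ N.index = 2 ∧ d.c ∉ N := by
  haveI : Fact (Nat.Prime 2) := ⟨Nat.prime_two⟩
  have hc1 : ∀ g, g * d.c * g⁻¹ ≠ d.z := by
    intro g h
    have hcent : ∀ x : G, (∀ t ∈ T, t * x = x * t) → x ∈ centralizer ((S : Subgroup G) : Set G) :=
      fun x hx => mem_centralizer_iff.2 fun t ht => hx t (by rw [← hS]; exact ht)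
    obtain ⟨n, hn, he⟩ := S.conj_eq_normalizer_conj_of_mem_centralizer d.c g⁻¹
      (hcent _ fun t ht => d.c_central (d.le_left ht))
      (by rw [inv_inv, h]; exact hcent _ fun t ht => d.z_central ht)
    rw [inv_inv, h] at he
    have hn' : ∀ t ∈ T, n * t * n⁻¹ ∈ T := fun t ht => by
      rw [← hS] at ht ⊢
      exact (mem_normalizer_iff.1 hn t).1 ht
    have h' := d.fix_z hn'
    rw [he, show n * (n⁻¹ * d.c * n) * n⁻¹ = d.c by group] at h'
    exact d.c_not_mem_D (by rw [h', he.symm]; exact d.z_mem_D)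
  refine TwoTransfer.exists_index_two S d.D (by rw [hS]; exact d.index_D) d.c
    (by show d.c ∈ (S : Subgroup G); rw [hS]; exact d.c_mem_T) ?_ ?_
  · intro k g hk _
    rw [d.pow_case hk g]
    exact one_mem _
  · intro g _
    simpa using d.D_no_conj hc1 (g := g⁻¹)

/-- The subgroup `D ∪ sD`. -/
def extend (D : Subgroup G) (s : G) (hn : ∀ x ∈ D, s * x * s⁻¹ ∈ D) (h2 : s * s ∈ D) :
    Subgroup G where
  carrier := {x | x ∈ D ∨ s⁻¹ * x ∈ D}
  one_mem' := Or.inl (one_mem _)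
  mul_mem' := by
    have hn' : ∀ x ∈ D, s⁻¹ * x * s ∈ D := fun x hx => by
      have := mul_mem (mul_mem (inv_mem h2) (hn x hx)) h2
      rwa [show (s * s)⁻¹ * (s * x * s⁻¹) * (s * s) = s⁻¹ * x * s by group] at this
    rintro a b (ha | ha) (hb | hb)
    · exact Or.inl (mul_mem ha hb)
    · refine Or.inr ?_
      have := mul_mem (hn' a ha) hb
      rwa [show s⁻¹ * a * s * (s⁻¹ * b) = s⁻¹ * (a * b) by group] at this
    · refine Or.inr ?_
      rw [← mul_assoc]
      exact mul_mem ha hb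
    · refine Or.inl ?_
      have := mul_mem (mul_mem (hn _ ha) h2) hb
      rwa [show s * (s⁻¹ * a) * s⁻¹ * (s * s) * (s⁻¹ * b) = a * b by group] at this
  inv_mem' := by
    rintro a (ha | ha)
    · exact Or.inl (inv_mem ha)
    · refine Or.inr ?_
      have hi := inv_mem ha
      have hn' : s⁻¹ * (s⁻¹ * a)⁻¹ * s ∈ D := by
        have := mul_mem (mul_mem (inv_mem h2) (hn _ hi)) h2
        rwa [show (s * s)⁻¹ * (s * (s⁻¹ * a)⁻¹ * s⁻¹) * (s * s) = s⁻¹ * (s⁻¹ * a)⁻¹ * s by group]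
          at this
      have := mul_mem hn' (inv_mem h2)
      rwa [show s⁻¹ * (s⁻¹ * a)⁻¹ * s * (s * s)⁻¹ = s⁻¹ * a⁻¹ by group] at this

theorem mem_extend {D : Subgroup G} {s : G} {hn : ∀ x ∈ D, s * x * s⁻¹ ∈ D} {h2 : s * s ∈ D}
    {x : G} : x ∈ extend D s hn h2 ↔ x ∈ D ∨ s⁻¹ * x ∈ D := Iff.rfl

/-- The Sylow subgroup has `T` as a subgroup of index at most two. -/
theorem sylow_eq {S : Subgroup G} (hS : IsPGroup 2 S) (hTS : T ≤ S)
    (hc1 : ∀ g, g * d.c * g⁻¹ ≠ d.z) {s : G} (hs : s ∈ S ⊓ normalizer (T : Set G)) (hsT : s ∉ T) :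
    S ≤ normalizer (T : Set G) := by
  haveI : Fact (Nat.Prime 2) := ⟨Nat.prime_two⟩
  by_contra hle
  set N := S ⊓ normalizer (T : Set G) with hN
  have hTN : T ≤ N := le_inf hTS le_normalizer
  have hlt : N.subgroupOf S < ⊤ := lt_top_iff_ne_top.2 fun h =>
    hle fun x hx => (mem_inf.1 ((mem_subgroupOf (K := S) (h := ⟨x, hx⟩)).1 (h ▸ mem_top _))).2
  haveI : Group.IsNilpotent S := hS.isNilpotent
  obtain ⟨⟨x, hxS⟩, hxn, hxN⟩ :=
    SetLike.exists_of_lt (normalizerCondition_of_isNilpotent (N.subgroupOf S) hlt)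
  rw [mem_subgroupOf] at hxN
  have hxNN : ∀ a ∈ N, x * a * x⁻¹ ∈ N := fun a ha => by
    have := (mem_normalizer_iff.1 hxn ⟨a, (mem_inf.1 ha).1⟩).1 (by simpa [mem_subgroupOf] using ha)
    simpa [mem_subgroupOf] using this
  have hxNN' : ∀ a ∈ N, x⁻¹ * a * x ∈ N := fun a ha => by
    have := (mem_normalizer_iff''.1 hxn ⟨a, (mem_inf.1 ha).1⟩).1 (by simpa [mem_subgroupOf] using ha)
    simpa [mem_subgroupOf] using this
  have hidx : (T.subgroupOf N).index = 2 := by
    refine index_eq_two_iff.2 ⟨⟨s, hs⟩, fun b => ?_⟩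
    simp only [mem_subgroupOf, Subgroup.coe_mul]
    by_cases hb : (b : G) ∈ T
    · exact Or.inr ⟨hb, fun h => hsT (by simpa using mul_mem (inv_mem hb) h)⟩
    · refine Or.inl ⟨?_, hb⟩
      have := d.coset hS hTS hc1 (inv_mem b.2) hs (fun h => hb (by simpa using inv_mem h)) hsT
      simpa using this
  have hcardN : Nat.card N = 32 := by
    have h := card_mul_index (T.subgroupOf N)
    rw [hidx, Nat.card_congr (subgroupOfEquivOfLe hTN).toEquiv, d.card_T'] at h
    omega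
  set y := x * d.c * x⁻¹ with hy
  have hyN : y ∈ N := hxNN _ (hTN d.c_mem_T)
  have hy2 : y * y = 1 := by
    rw [hy, show x * d.c * x⁻¹ * (x * d.c * x⁻¹) = x * (d.c * d.c) * x⁻¹ by group, d.c_sq, mul_one,
      mul_inv_cancel]
  set T' := T.map (MulAut.conj x).toMonoidHom with hT'
  have hmem' : ∀ a, a ∈ T' ↔ ∃ t ∈ T, x * t * x⁻¹ = a := fun a => by
    simp [hT', mem_map]
  have hT'N : T' ≤ N := fun a ha => by
    obtain ⟨t, ht, rfl⟩ := (hmem' a).1 ha
    exact hxNN t (hTN ht)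
  have hT'c : ∀ a, a ∈ T' ↔ a ∈ N ∧ a * y = y * a := by
    intro a
    constructor
    · intro ha
      obtain ⟨t, ht, rfl⟩ := (hmem' a).1 ha
      refine ⟨hxNN t (hTN ht), ?_⟩
      calc x * t * x⁻¹ * (x * d.c * x⁻¹) = x * (t * d.c) * x⁻¹ := by group
        _ = x * d.c * x⁻¹ * (x * t * x⁻¹) := by rw [d.c_central (d.le_left ht)]; group
    · rintro ⟨ha, hc⟩
      refine (hmem' a).2 ⟨x⁻¹ * a * x, d.mem_T_of_mem hS hTS (mem_inf.1 (hxNN' a ha)).1
        (d.cent_c ?_), by group⟩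
      calc x⁻¹ * a * x * d.c = x⁻¹ * (a * y) * x := by rw [hy]; group
        _ = d.c * (x⁻¹ * a * x) := by rw [hc, hy]; group
  have hcardT' : Nat.card T' = 16 := by
    rw [hT', card_map_of_injective (MulEquiv.injective _), d.card_T']
  have hnorm : T' = T → False := fun h => hxN (by
    refine mem_inf.2 ⟨hxS, mem_normalizer_iff.2 fun t => ?_⟩
    conv_rhs => rw [← h, hmem']
    exact ⟨fun ht => ⟨t, ht, rfl⟩,
      fun ⟨t', ht', e⟩ => (mul_left_cancel (mul_right_cancel e)) ▸ ht'⟩)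
  have ms : d.Move s := d.move_of hS hTS hc1 (mem_inf.1 hs).1 hsT (mem_inf.1 hs).2
  by_cases hyT : y ∈ T
  · have hyD : y ∉ d.D := d.D_no_conj hc1
    have hv : d.c * y ∈ d.D := (d.T_cases hyT).resolve_left hyD
    have hyv : y = d.c * (d.c * y) := by rw [← mul_assoc, d.c_sq, one_mul]
    have hv2 : d.c * y * (d.c * y) = 1 := by
      calc d.c * y * (d.c * y) = d.c * (y * d.c) * y := by group
        _ = d.c * d.c * (y * y) := by rw [d.c_central (d.le_left hyT)]; group
        _ = 1 := by rw [d.c_sq, hy2, mul_one]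
    by_cases hc : ∀ t ∈ T, t * y = y * t
    · -- then `y` is `c` or `c * z`
      refine hnorm (eq_of_le_of_card_ge ?_ (by rw [hcardT', d.card_T']))
      intro a ha
      obtain ⟨haN, hay⟩ := (hT'c a).1 ha
      have haS := (mem_inf.1 haN).1
      rcases d.T_center hyT (fun t ht => (hc t ht).symm) with h | h | h | h
      · exact absurd h (fun h => d.c_ne (conj_eq_one_iff.1 h))
      · exact absurd h (fun h => hyD (by rw [h]; exact d.z_mem_D))
      · rw [h] at hay
        exact d.mem_T_of_mem hS hTS haS (d.cent_c hay)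
      · rw [h] at hay
        exact d.swap.mem_T_of_mem hS hTS haS (d.cent_cz hay)
    have hK : ∀ a ∈ N, a * y = y * a → s * a * s⁻¹ * y = y * (s * a * s⁻¹) := by
      intro a ha hay
      have hnml : (T'.subgroupOf N).Normal := normal_of_index_eq_two (by
        have h := card_mul_index (T'.subgroupOf N)
        rw [Nat.card_congr (subgroupOfEquivOfLe hT'N).toEquiv, hcardT', hcardN] at h
        omega)
      have h := hnml.conj_mem ⟨a, ha⟩ (mem_subgroupOf.2 ((hT'c a).2 ⟨ha, hay⟩)) ⟨s, hs⟩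
      rw [mem_subgroupOf] at h
      simpa using ((hT'c _).1 h).2
    rcases d.D_invol hv hv2 with hV | hV
    · by_cases hV' : d.c * y ∈ d.r.V
      · refine hc fun t ht => ?_
        rcases d.z_only hV hV' with h | h <;> rw [hyv, h]
        · rw [mul_one]; exact d.c_central (d.le_left ht)
        · exact d.cz_central (d.le_right ht)
      · exact d.not_cv hV hV' hTN ms (fun a ha hay => by
          rw [← hyv] at hay ⊢; exact hK a ha hay)
    · by_cases hV' : d.c * y ∈ d.s.V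
      · refine hc fun t ht => ?_
        rcases d.z_only hV' hV with h | h <;> rw [hyv, h]
        · rw [mul_one]; exact d.c_central (d.le_left ht)
        · exact d.cz_central (d.le_right ht)
      · have hzv : d.z * (d.c * y) ∈ d.r.V := mul_mem d.z_right hV
        have hzv' : d.z * (d.c * y) ∉ d.s.V := fun h => hV' (by
          have := mul_mem d.z_left h
          rwa [← mul_assoc, d.z_sq, one_mul] at this)
        have hy' : d.swap.c * (d.z * (d.c * y)) = y := by
          rw [d.swap_c, mul_assoc d.c, ← mul_assoc d.z, d.z_sq, one_mul, ← hyv]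
        refine d.swap.not_cv hzv hzv' hTN ⟨?_, ?_, ?_, ms.hW, ms.hV⟩ (fun a ha hay => by
          rw [hy'] at hay ⊢; exact hK a ha hay)
        · rw [d.swap_z, d.c_of_swap, d.swap_c]; exact ms.hcz
        · rw [d.swap_z, d.c_of_swap, d.swap_c]; exact ms.hc
        · rw [d.swap_z]; exact ms.hz
  · -- an involution of `N` outside `T` centralizes too little of `T`
    have my : d.Move y := d.move_of hS hTS hc1 (mem_inf.1 hyN).1 hyT (mem_inf.1 hyN).2
    set K := T ⊓ T' with hK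
    have hKE : K ⊓ d.s.E ≤ d.s.V ⊓ d.r.V := by
      intro a ha
      obtain ⟨ha', haE⟩ := mem_inf.1 ha
      have hay := ((hT'c a).1 (mem_inf.1 ha').2).2
      have hfix : y * a * y⁻¹ = a := by rw [← hay, mul_inv_cancel_right]
      obtain ⟨g, b, h1, h2, rfl⟩ := d.s.mem_E.1 haE
      set v := d.s.emb (g, 1) with hvdef
      have hv : v ∈ d.s.V := d.s.mem_V.2 ⟨g, h1, h2, rfl⟩
      have hbc : d.s.emb (1, b) ∈ d.s.C := d.s.mem_C.2 ⟨b, rfl⟩
      have hsplit : d.s.emb (g, b) = d.s.emb (1, b) * v := by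
        rw [hvdef, ← map_mul, Prod.mk_mul_mk, one_mul, mul_one]
      have hw := my.hV v hv
      rw [hsplit] at hfix ⊢
      rcases d.mem_C_cases hbc with hb | hb <;> rw [hb] at hfix ⊢
      · rw [one_mul] at hfix ⊢
        exact mem_inf.2 ⟨hv, hfix ▸ hw⟩
      · exfalso
        rw [show y * (d.c * v) * y⁻¹ = y * d.c * y⁻¹ * (y * v * y⁻¹) by group, my.hc,
          mul_assoc] at hfix
        have h3 : d.z * (y * v * y⁻¹) = v := mul_left_cancel hfix
        have hvW : v ∈ d.r.V := h3 ▸ mul_mem d.z_right hw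
        rcases d.z_only hv hvW with h | h <;> rw [h] at h3
        · rw [mul_one, mul_inv_cancel, mul_one] at h3; exact d.z_ne h3
        · rw [my.hz, d.z_sq] at h3; exact d.z_ne h3.symm
    have h2 : Nat.card ↥(K ⊓ d.s.E) ≤ 2 := by
      refine le_trans (Nat.le_of_dvd Nat.card_pos (card_dvd_of_le hKE)) (le_of_eq ?_)
      rw [Nat.card_eq_two_iff]
      refine ⟨1, ⟨d.z, d.z_left, d.z_right⟩, fun h => d.z_ne (congrArg Subtype.val h).symm, ?_⟩
      ext ⟨a, ha1, ha2⟩
      simp only [Set.mem_insert_iff, Set.mem_singleton_iff, Set.mem_univ, iff_true, Subtype.ext_iff]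
      exact d.z_only ha1 ha2
    have hE : K ≤ normalizer (d.s.E : Set G) :=
      (inf_le_left.trans d.le_left).trans d.s.P_le_normalizer_E
    have e1 := card_sup_mul' hE
    rw [d.card_E', inf_comm] at e1
    have h16 : Nat.card ↥(d.s.E ⊔ K) ≤ 16 :=
      d.card_T' ▸ Nat.le_of_dvd Nat.card_pos (card_dvd_of_le (sup_le d.E_le inf_le_left))
    have e2 := card_sup_mul' (H := T) (K := T') (hT'N.trans inf_le_right)
    rw [d.card_T', hcardT', ← hK] at e2
    have h32 : Nat.card ↥(T ⊔ T') ≤ 32 :=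
      hcardN ▸ Nat.le_of_dvd Nat.card_pos (card_dvd_of_le (sup_le hTN hT'N))
    have h8 := Nat.mul_le_mul h16 h2
    have h9 := Nat.mul_le_mul h32 (le_refl (Nat.card K))
    omega

/-- The case in which `T` is not a Sylow 2-subgroup. -/
theorem index_two_of_lt (S : Sylow 2 G) (hTS : T ≤ S) (hne : (S : Subgroup G) ≠ T) :
    ∃ N : Subgroup G, N.Normal ∧ N.index = 2 ∧ d.c ∉ N := by
  haveI : Fact (Nat.Prime 2) := ⟨Nat.prime_two⟩
  haveI : Group.IsNilpotent (S : Subgroup G) := S.2.isNilpotent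
  have hlt : T.subgroupOf (S : Subgroup G) < ⊤ :=
    lt_top_iff_ne_top.2 fun h => hne (le_antisymm (subgroupOf_eq_top.1 h) hTS)
  obtain ⟨⟨s₁, hs₁S⟩, hsn, hs₁T⟩ :=
    SetLike.exists_of_lt (normalizerCondition_of_isNilpotent _ hlt)
  rw [mem_subgroupOf] at hs₁T
  have hs₁N : s₁ ∈ normalizer (T : Set G) := mem_normalizer_iff.2 fun t => by
    constructor
    · intro ht
      have := (mem_normalizer_iff.1 hsn ⟨t, hTS ht⟩).1 (by simpa [mem_subgroupOf] using ht)
      simpa [mem_subgroupOf] using this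
    · intro ht
      have htS : t ∈ (S : Subgroup G) := by
        have := mul_mem (mul_mem (inv_mem hs₁S) (hTS ht)) hs₁S
        rwa [show s₁⁻¹ * (s₁ * t * s₁⁻¹) * s₁ = t by group] at this
      have := (mem_normalizer_iff.1 hsn ⟨t, htS⟩).2 (by simpa [mem_subgroupOf] using ht)
      simpa [mem_subgroupOf] using this
  have hs₁ : s₁ ∈ (S : Subgroup G) ⊓ normalizer (T : Set G) := mem_inf.2 ⟨hs₁S, hs₁N⟩
  set N₀ := (S : Subgroup G) ⊓ normalizer (T : Set G) with hN₀
  have hc1 : ∀ g, g * d.c * g⁻¹ ≠ d.z := by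
    refine d.not_conj_of_big (K := N₀) (S.2.to_le inf_le_left) ?_ fun k hk => ?_
    · rw [← d.card_T']
      have hTN : T ≤ N₀ := le_inf hTS le_normalizer
      refine lt_of_le_of_ne (Nat.le_of_dvd Nat.card_pos (card_dvd_of_le hTN)) fun h => hs₁T ?_
      rw [eq_of_le_of_card_ge hTN h.ge]
      exact hs₁
    · have := d.fix_z fun t ht => (mem_normalizer_iff.1 (mem_inf.1 hk).2 t).1 ht
      exact mul_inv_eq_iff_eq_mul.1 this
  have hSN : ∀ a ∈ (S : Subgroup G), a ∈ N₀ := fun a ha =>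
    mem_inf.2 ⟨ha, d.sylow_eq S.2 hTS hc1 hs₁ hs₁T ha⟩
  have hmove : ∀ a ∈ (S : Subgroup G), a ∉ T → d.Move a := fun a ha haT =>
    d.move_of S.2 hTS hc1 ha haT (mem_inf.1 (hSN a ha)).2
  have hcoset : ∀ a ∈ (S : Subgroup G), ∀ b ∈ (S : Subgroup G), a ∉ T → b ∉ T → a⁻¹ * b ∈ T :=
    fun a ha b hb haT hbT => d.coset S.2 hTS hc1 (hSN a ha) (hSN b hb) haT hbT
  obtain ⟨s, hsS, hsT, hclass⟩ : ∃ s ∈ (S : Subgroup G), s ∉ T ∧
      ∀ y ∈ (S : Subgroup G), y ∉ T → y * y = 1 → s⁻¹ * y ∉ d.D := by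
    by_cases hex : ∃ y₀ ∈ (S : Subgroup G), y₀ ∉ T ∧ y₀ * y₀ = 1
    · obtain ⟨y₀, hy₀S, hy₀T, hy₀2⟩ := hex
      refine ⟨y₀ * d.c, mul_mem hy₀S (hTS d.c_mem_T),
        fun h => hy₀T ((mul_mem_cancel_right d.c_mem_T).1 h), fun y _ _ hy2 he => ?_⟩
      obtain ⟨e, he', rfl⟩ : ∃ e ∈ d.D, y = y₀ * d.c * e :=
        ⟨_, he, by group⟩
      have m := hmove y₀ hy₀S hy₀T
      have hyi : y₀⁻¹ = y₀ := inv_eq_of_mul_eq_one_right hy₀2
      refine m.no_inverted d hy₀2 he' ?_
      have h1 : y₀ * d.c * y₀⁻¹ * (y₀ * e * y₀⁻¹) * d.c * e = 1 := by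
        rw [← hy2, hyi]
        calc y₀ * d.c * y₀ * (y₀ * e * y₀) * d.c * e
              = y₀ * d.c * (y₀ * y₀) * e * y₀ * d.c * e := by group
          _ = y₀ * d.c * e * (y₀ * d.c * e) := by rw [hy₀2]; group
      rw [m.hc] at h1
      have h2 := eq_inv_of_mul_eq_one_left h1
      have hce : e⁻¹ * d.c = d.c * e⁻¹ := d.c_central (inv_mem (d.le_left (d.D_le he')))
      calc y₀ * e * y₀⁻¹ = (d.c * d.z)⁻¹ * (d.c * d.z * (y₀ * e * y₀⁻¹) * d.c) * d.c⁻¹ := by group
        _ = (d.c * d.z)⁻¹ * e⁻¹ * d.c⁻¹ := by rw [h2]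
        _ = d.z * d.c * e⁻¹ * d.c := by
          rw [mul_inv_rev, inv_eq_of_mul_eq_one_right d.z_sq, inv_eq_of_mul_eq_one_right d.c_sq]
        _ = d.z * e⁻¹ := by
          rw [mul_assoc d.z, mul_assoc d.z, mul_assoc d.c, hce, ← mul_assoc d.c, d.c_sq, one_mul]
    · exact ⟨s₁, hs₁S, hs₁T, fun y hy hyT hy2 => absurd ⟨y, hy, hyT, hy2⟩ hex⟩
  have ms := hmove s hsS hsT
  have hs2T : s * s ∈ T := by
    have := hcoset s⁻¹ (inv_mem hsS) s hsS (fun h => hsT (by simpa using inv_mem h)) hsT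
    simpa using this
  set M := extend d.D s ms.conj_D (ms.sq_mem d hs2T) with hM
  have hcM : d.c ∉ M := by
    rintro (h | h)
    · exact d.c_not_mem_D h
    · have := mul_mem (d.D_le h) d.c_mem_T
      rw [mul_assoc, d.c_sq, mul_one] at this
      exact hsT (by simpa using inv_mem this)
  have hidx : M.relIndex (S : Subgroup G) = 2 := by
    refine index_eq_two_iff.2 ⟨⟨d.c, hTS d.c_mem_T⟩, fun b => ?_⟩
    simp only [mem_subgroupOf, Subgroup.coe_mul]
    by_cases hb : (b : G) ∈ M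
    · exact Or.inr ⟨hb, fun h => hcM (by simpa using mul_mem (inv_mem hb) h)⟩
    refine Or.inl ⟨?_, hb⟩
    obtain ⟨hb1, hb2⟩ := not_or.1 hb
    by_cases hbT : (b : G) ∈ T
    · left
      rw [d.c_central (d.le_left hbT)]
      exact (d.T_cases hbT).resolve_left hb1
    · right
      have ht := hcoset s hsS b b.2 hsT hbT
      rw [← mul_assoc, d.c_central (d.le_left ht)]
      exact (d.T_cases ht).resolve_left hb2
  refine TwoTransfer.exists_index_two S M hidx d.c (hTS d.c_mem_T) ?_ ?_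
  · intro k g hk _
    rw [d.pow_case hk g]
    exact one_mem _
  · rintro g hgS (h | h)
    · exact d.D_no_conj hc1 (g := g⁻¹) (by simpa using h)
    · refine hclass _ hgS (fun hT => ?_) ?_ h
      · refine hsT ?_
        have := mul_mem hT (inv_mem (d.D_le h))
        rwa [show g⁻¹ * d.c * g * (s⁻¹ * (g⁻¹ * d.c * g))⁻¹ = s by group] at this
      · calc g⁻¹ * d.c * g * (g⁻¹ * d.c * g) = g⁻¹ * (d.c * d.c) * g := by group
          _ = 1 := by rw [d.c_sq, mul_one, inv_mul_cancel]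

include d hA in
/-- The subgroup generated by the elements of odd order meets both central factors trivially. -/
theorem C_inf_odd (H : Subgroup G) (hH : H = Subgroup.closure {g : G | Odd (orderOf g)}) :
    d.s.C ⊓ H = ⊥ ∧ d.r.C ⊓ H = ⊥ := by
  haveI : Fact (Nat.Prime 2) := ⟨Nat.prime_two⟩
  obtain ⟨S, hTS⟩ := d.two.exists_le_sylow
  obtain ⟨N, hN, hidx, hcN⟩ : ∃ N : Subgroup G, N.Normal ∧ N.index = 2 ∧ d.c ∉ N := by
    by_cases h : (S : Subgroup G) = T
    · exact d.index_two_of_eq S h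
    · exact d.index_two_of_lt S hTS h
  have hodd : ∀ g : G, Odd (orderOf g) → g ∈ N := by
    intro g hg
    obtain ⟨k, hk⟩ := hg
    have h1 : g ^ (2 * k + 1) ∈ N := by rw [← hk, pow_orderOf_eq_one]; exact one_mem _
    rw [pow_succ, pow_mul] at h1
    exact (mul_mem_cancel_left (pow_mem (sq_mem_of_index_two hidx g) k)).1 h1
  have hHN : H ≤ N := hH ▸ (closure_le N).2 hodd
  refine ⟨eq_bot_iff.2 fun a ha => ?_, eq_bot_iff.2 fun a ha => ?_⟩
  · rcases d.mem_C_cases (mem_inf.1 ha).1 with rfl | rfl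
    · exact one_mem _
    · exact absurd (hHN (mem_inf.1 ha).2) hcN
  · rcases d.swap.mem_C_cases (mem_inf.1 ha).1 with rfl | rfl
    · exact one_mem _
    · refine absurd ?_ hcN
      rw [← d.c_of_swap]
      exact mul_mem (hHN (mem_inf.1 ha).2) (d.D_le_of_odd hodd d.z_mem_D)

end Cfsg.Agent.TwoS4.Pair
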